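import Mathlib

/-!
Coded arithmetic of the field with eight elements and of `4 × 4` matrices over it (helper32).
-/

set_option autoImplicit false

namespace Cfsg.Agent.Lib.ThompsonF4.Coded

/-- Multiplication by the generator. -/
def dbl (a : ℕ) : ℕ := if a < 4 then 2 * a else (2 * a - 8) ^^^ 3

/-- Multiplication of codes, bit by bit. -/
def mulB (a b : ℕ) : ℕ :=
  (if b.testBit 0 then a else 0) ^^^ (if b.testBit 1 then dbl a else 0) ^^^
    (if b.testBit 2 then dbl (dbl a) else 0)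

/-- Multiplication of codes, by a table. -/
def mulC (a b : ℕ) : ℕ := Nat.land (Nat.shiftRight 2821848294356612419217921029917578219971947684264937521152 (3 * (8 * a + b))) 7

theorem mulC_eq : ∀ a < 8, ∀ b < 8, mulC a b = mulB a b := by decide +kernel

/-- Power of a code. -/
def powC (a : ℕ) : ℕ → ℕ
  | 0 => 1
  | n + 1 => mulC (powC a n) a

theorem code_bounds : (∀ a < 8, dbl a < 8) ∧ ∀ a < 8, ∀ b < 8, mulC a b < 8 ∧ a ^^^ b < 8 := by decide +kernel

theorem powC_lt {a : ℕ} (ha : a < 8) : ∀ n, powC a n < 8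
  | 0 => by simp [powC]
  | n + 1 => (code_bounds.2 _ (powC_lt ha n) a ha).1

section Field

variable {K : Type*} [Field K] [CharP K 2]

/-- The field element of a code. -/
def io (g : K) (a : ℕ) : K :=
  (if a.testBit 0 then 1 else 0) + (if a.testBit 1 then g else 0) + (if a.testBit 2 then g ^ 2 else 0)

omit [CharP K 2] in
theorem io_vals (g : K) : io g 0 = 0 ∧ io g 1 = 1 ∧ io g 2 = g ∧ io g 3 = 1 + g ∧ io g 4 = g ^ 2 ∧
    io g 5 = 1 + g ^ 2 ∧ io g 6 = g + g ^ 2 ∧ io g 7 = 1 + g + g ^ 2 := by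
  refine ⟨?_, ?_, ?_, ?_, ?_, ?_, ?_, ?_⟩ <;> simp [io, Nat.testBit_eq_decide_div_mod_eq]

omit [CharP K 2] in
theorem io_zero (g : K) : io g 0 = 0 := (io_vals g).1

omit [CharP K 2] in
theorem io_one (g : K) : io g 1 = 1 := (io_vals g).2.1

omit [CharP K 2] in
theorem io_two (g : K) : io g 2 = g := (io_vals g).2.2.1

theorem io_xor (g : K) (a b : ℕ) : io g (a ^^^ b) = io g a + io g b := by
  have h : ∀ (x : K) (p q : Bool), (if (p ^^ q) then x else 0) = (if p then x else 0) + (if q then x else 0) := by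
    intro x p q
    cases p <;> cases q <;> simp [CharTwo.add_self_eq_zero]
  simp only [io, Nat.testBit_xor]
  rw [show ((a.testBit 0).xor (b.testBit 0)) = (a.testBit 0 ^^ b.testBit 0) from rfl]
  simp only [h]
  ring

variable {g : K} (hg : g ^ 3 = g + 1)
include hg

theorem io_dbl {a : ℕ} (ha : a < 8) : io g (dbl a) = io g a * g := by
  obtain ⟨v0, v1, v2, v3, v4, v5, v6, v7⟩ := io_vals g
  have h2 : (2 : K) = 0 := CharTwo.two_eq_zero
  interval_cases a <;> norm_num [dbl, v0, v1, v2, v3, v4, v5, v6, v7, show (2 : ℕ) ^^^ 3 = 1 by decide, show (4 : ℕ) ^^^ 3 = 7 by decide, show (6 : ℕ) ^^^ 3 = 5 by decide] <;>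
    first
      | ring1
      | linear_combination -hg
      | linear_combination (-1 - g) * h2 - hg
      | linear_combination -hg - g * h2

theorem io_mul {a b : ℕ} (ha : a < 8) (hb : b < 8) : io g (mulC a b) = io g a * io g b := by
  rw [mulC_eq a ha b hb]
  have hz := io_zero g
  have h1 := io_dbl hg ha
  have h2 := io_dbl hg (code_bounds.1 a ha)
  rw [mulB, io_xor, io_xor]
  simp only [apply_ite (io g), hz, h1, h2]
  rw [show io g b = (if b.testBit 0 then 1 else 0) + (if b.testBit 1 then g else 0) +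
    (if b.testBit 2 then g ^ 2 else 0) from rfl]
  split_ifs <;> ring

theorem io_pow {a : ℕ} (ha : a < 8) : ∀ n, io g (powC a n) = io g a ^ n
  | 0 => by rw [powC, io_one, pow_zero]
  | n + 1 => by rw [powC, io_mul hg (powC_lt ha n) ha, io_pow ha n, pow_succ]

theorem io_ne_zero {a : ℕ} (ha : a < 8) (h0 : a ≠ 0) : io g a ≠ 0 := by
  obtain ⟨b, hb, e⟩ : ∃ b < 8, mulC a b = 1 :=
    (by decide +kernel : ∀ a < 8, a ≠ 0 → ∃ b < 8, mulC a b = 1) a ha h0
  intro hz
  have := io_mul hg ha hb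
  rw [e, io_one, hz, zero_mul] at this
  exact one_ne_zero this

theorem io_inj {a b : ℕ} (ha : a < 8) (hb : b < 8) (h : io g a = io g b) : a = b := by
  by_contra hne
  refine io_ne_zero hg (code_bounds.2 a ha b hb).2 (fun e => hne (Nat.xor_eq_zero_iff.1 e)) ?_
  rw [io_xor, h, CharTwo.add_self_eq_zero]

theorem io_surj [Fintype K] (hK : Fintype.card K = 8) (x : K) : ∃ a < 8, io g a = x := by
  have hb : Function.Bijective fun a : Fin 8 => io g a.1 :=
    (Fintype.bijective_iff_injective_and_card _).2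
      ⟨fun a b h => Fin.ext (io_inj hg a.2 b.2 h), by rw [Fintype.card_fin, hK]⟩
  obtain ⟨a, e⟩ := hb.2 x
  exact ⟨a.1, a.2, e⟩

end Field

/-- A coded matrix, row by row. -/
abbrev Code : Type := List ℕ

/-- An entry. -/
def ent (l : Code) (i j : ℕ) : ℕ := l.getD (4 * i + j) 0

/-- The product of coded matrices. -/
def mulL (a b : Code) : Code :=
  (List.range 16).map fun k => mulC (ent a (k / 4) 0) (ent b 0 (k % 4)) ^^^ mulC (ent a (k / 4) 1) (ent b 1 (k % 4))
    ^^^ mulC (ent a (k / 4) 2) (ent b 2 (k % 4)) ^^^ mulC (ent a (k / 4) 3) (ent b 3 (k % 4))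

/-- The identity. -/
def oneL : Code := [1, 0, 0, 0, 0, 1, 0, 0, 0, 0, 1, 0, 0, 0, 0, 1]

/-- All entries are codes. -/
def Small (l : Code) : Prop := ∀ i < 4, ∀ j < 4, ent l i j < 8

theorem ent_mulL (a b : Code) {i j : ℕ} (hi : i < 4) (hj : j < 4) :
    ent (mulL a b) i j = mulC (ent a i 0) (ent b 0 j) ^^^ mulC (ent a i 1) (ent b 1 j)
      ^^^ mulC (ent a i 2) (ent b 2 j) ^^^ mulC (ent a i 3) (ent b 3 j) := by
  have h1 : (4 * i + j) / 4 = i := by omega
  have h2 : (4 * i + j) % 4 = j := by omega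
  rw [ent, mulL, List.getD_eq_getElem _ _ (by simp; omega), List.getElem_map, List.getElem_range, h1, h2]

theorem small_mulL {a b : Code} (ha : Small a) (hb : Small b) : Small (mulL a b) := by
  intro i hi j hj
  rw [ent_mulL a b hi hj]
  have hm : ∀ k < 4, mulC (ent a i k) (ent b k j) < 8 := fun k hk =>
    (code_bounds.2 _ (ha i hi k hk) _ (hb k hk j hj)).1
  exact (code_bounds.2 _ (code_bounds.2 _ (code_bounds.2 _ (hm 0 (by omega)) _ (hm 1 (by omega))).2 _
    (hm 2 (by omega))).2 _ (hm 3 (by omega))).2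

/-- The product of coded matrices, written out. -/
def mulF : Code → Code → Code
  | [a0, a1, a2, a3, a4, a5, a6, a7, a8, a9, a10, a11, a12, a13, a14, a15],
    [b0, b1, b2, b3, b4, b5, b6, b7, b8, b9, b10, b11, b12, b13, b14, b15] =>
    [mulC a0 b0 ^^^ mulC a1 b4 ^^^ mulC a2 b8 ^^^ mulC a3 b12,
    mulC a0 b1 ^^^ mulC a1 b5 ^^^ mulC a2 b9 ^^^ mulC a3 b13,
    mulC a0 b2 ^^^ mulC a1 b6 ^^^ mulC a2 b10 ^^^ mulC a3 b14,
    mulC a0 b3 ^^^ mulC a1 b7 ^^^ mulC a2 b11 ^^^ mulC a3 b15,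
    mulC a4 b0 ^^^ mulC a5 b4 ^^^ mulC a6 b8 ^^^ mulC a7 b12,
    mulC a4 b1 ^^^ mulC a5 b5 ^^^ mulC a6 b9 ^^^ mulC a7 b13,
    mulC a4 b2 ^^^ mulC a5 b6 ^^^ mulC a6 b10 ^^^ mulC a7 b14,
    mulC a4 b3 ^^^ mulC a5 b7 ^^^ mulC a6 b11 ^^^ mulC a7 b15,
    mulC a8 b0 ^^^ mulC a9 b4 ^^^ mulC a10 b8 ^^^ mulC a11 b12,
    mulC a8 b1 ^^^ mulC a9 b5 ^^^ mulC a10 b9 ^^^ mulC a11 b13,
    mulC a8 b2 ^^^ mulC a9 b6 ^^^ mulC a10 b10 ^^^ mulC a11 b14,
    mulC a8 b3 ^^^ mulC a9 b7 ^^^ mulC a10 b11 ^^^ mulC a11 b15,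
    mulC a12 b0 ^^^ mulC a13 b4 ^^^ mulC a14 b8 ^^^ mulC a15 b12,
    mulC a12 b1 ^^^ mulC a13 b5 ^^^ mulC a14 b9 ^^^ mulC a15 b13,
    mulC a12 b2 ^^^ mulC a13 b6 ^^^ mulC a14 b10 ^^^ mulC a15 b14,
    mulC a12 b3 ^^^ mulC a13 b7 ^^^ mulC a14 b11 ^^^ mulC a15 b15]
  | _, _ => []

/-- A coded matrix. -/
def Ok (l : Code) : Prop := l.length = 16 ∧ Small l

theorem mulF_eq : ∀ {a b : Code}, a.length = 16 → b.length = 16 → mulF a b = mulL a b
  | [_, _, _, _, _, _, _, _, _, _, _, _, _, _, _, _], [_, _, _, _, _, _, _, _, _, _, _, _, _, _, _, _], _, _ => by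
    simp [mulF, mulL, ent, List.range_succ]

theorem ok_mulF {a b : Code} (ha : Ok a) (hb : Ok b) : Ok (mulF a b) := by
  rw [mulF_eq ha.1 hb.1]
  exact ⟨by simp [mulL], small_mulL ha.2 hb.2⟩

theorem ok_oneL : Ok oneL := ⟨rfl, fun i hi j hj => by interval_cases i <;> interval_cases j <;> decide⟩

theorem ok_of_check {l : Code} (h : (decide (l.length = 16) && (List.range 16).all fun k => decide (l.getD k 0 < 8)) = true) :
    Ok l := by
  rw [Bool.and_eq_true, decide_eq_true_eq, List.all_eq_true] at h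
  exact ⟨h.1, fun i hi j hj => of_decide_eq_true (h.2 _ (List.mem_range.2 (by omega)))⟩

variable {K : Type*} [Field K] [CharP K 2]

/-- The matrix of a code. -/
def toM (g : K) (l : Code) : Matrix (Fin 4) (Fin 4) K := Matrix.of fun i j => io g (ent l i j)

theorem toM_mul {g : K} (hg : g ^ 3 = g + 1) {a b : Code} (ha : Small a) (hb : Small b) :
    toM g (mulL a b) = toM g a * toM g b := by
  ext i j
  rw [toM, Matrix.of_apply, ent_mulL a b i.2 j.2, io_xor, io_xor, io_xor,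
    io_mul hg (ha i i.2 0 (by omega)) (hb 0 (by omega) j j.2),
    io_mul hg (ha i i.2 1 (by omega)) (hb 1 (by omega) j j.2),
    io_mul hg (ha i i.2 2 (by omega)) (hb 2 (by omega) j j.2),
    io_mul hg (ha i i.2 3 (by omega)) (hb 3 (by omega) j j.2), Matrix.mul_apply, Fin.sum_univ_four]
  rfl

omit [CharP K 2] in
theorem toM_one (g : K) : toM g oneL = 1 := by
  ext i j
  fin_cases i <;> fin_cases j <;> simp [toM, ent, oneL, io_one, io_zero]

theorem eq_of_toM {g : K} (hg : g ^ 3 = g + 1) {a b : Code} (ha : Small a) (hb : Small b)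
    (h : toM g a = toM g b) {i j : ℕ} (hi : i < 4) (hj : j < 4) : ent a i j = ent b i j :=
  io_inj hg (ha i hi j hj) (hb i hi j hj) (congrFun (congrFun h ⟨i, hi⟩) ⟨j, hj⟩)

theorem toM_mulF {g : K} (hg : g ^ 3 = g + 1) {a b : Code} (ha : Ok a) (hb : Ok b) :
    toM g (mulF a b) = toM g a * toM g b := by
  rw [mulF_eq ha.1 hb.1, toM_mul hg ha.2 hb.2]

theorem eq_of_toM' {g : K} (hg : g ^ 3 = g + 1) {a b : Code} (ha : Ok a) (hb : Ok b)
    (h : toM g a = toM g b) : a = b := by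
  refine List.ext_getElem (ha.1.trans hb.1.symm) fun n h1 h2 => ?_
  have hn : n < 16 := ha.1 ▸ h1
  have := eq_of_toM hg ha.2 hb.2 h (i := n / 4) (j := n % 4) (by omega) (by omega)
  simpa [ent, List.getD_eq_getElem, Nat.div_add_mod, h1, h2] using this

end Cfsg.Agent.Lib.ThompsonF4.Coded
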