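import Cfsg.Agent.Lib.ThompsonF4.Regular
import Cfsg.Agent.Lib.ThompsonF4.Coded

/-!
The four dimensional block of the node `1` of `²F₄` and the matrices of its generators there (helper32).
-/

set_option autoImplicit false

namespace Cfsg.Agent.Lib.ThompsonF4

open Cfsg.Lie Cfsg.Agent.Lib.Chev Cfsg.Agent.Lib.Twisted Cfsg.Agent.Lib.Twisted.Core
open Cfsg.Agent.Lib.Twisted.ReeF

variable {K : Type*} [Field K]

/-- The coordinates of the block. -/
def blk (i : Fin 4) : chevF4.Idx := Sum.inr ⟨![33, 34, 35, 37] i, by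
  fin_cases i <;> decide⟩

theorem blk_injective : Function.Injective blk := by decide

/-- The two gradings that cut out the block. -/
def grade (j : ℕ) : chevF4.Idx → ℤ := wgt chevF4 (coef chevF4 F4.cert j)

theorem blk_of_grade : ∀ (z : chevF4.Idx) (i : Fin 4), grade 0 z = grade 0 (blk i) → grade 3 z = grade 3 (blk i) →
    ∃ k, blk k = z := by decide +kernel

/-- The units preserving both gradings. -/
def blockSub (K : Type*) [Field K] : Subgroup (GL chevF4.Idx K) :=
  gradedGroup chevF4 K (grade 0) ⊓ gradedGroup chevF4 K (grade 3)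

/-- The block of a matrix. -/
def blockFun (g : GL chevF4.Idx K) : Matrix (Fin 4) (Fin 4) K :=
  Matrix.of fun i j => (g : Matrix chevF4.Idx chevF4.Idx K) (blk i) (blk j)

theorem blockFun_one : blockFun (1 : GL chevF4.Idx K) = 1 := by
  ext i j
  rw [blockFun, Matrix.of_apply, Units.val_one, Matrix.one_apply, Matrix.one_apply]
  simp [blk_injective.eq_iff]

theorem blockFun_mul {a b : GL chevF4.Idx K} (ha : a ∈ blockSub K) :
    blockFun (a * b) = blockFun a * blockFun b := by
  ext i j
  rw [blockFun, Matrix.of_apply, Units.val_mul, Matrix.mul_apply, Matrix.mul_apply]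
  refine (Fintype.sum_of_injective blk blk_injective _ _ (fun z hz => ?_) (fun k => rfl)).symm
  have h0 : (a : Matrix chevF4.Idx chevF4.Idx K) (blk i) z = 0 := by
    by_contra hne
    exact hz (blk_of_grade z i (mem_gradedGroup_iff.1 ha.1 _ _ hne).symm
      (mem_gradedGroup_iff.1 ha.2 _ _ hne).symm)
  rw [h0, zero_mul]

/-- The block representation. -/
def blockHom (K : Type*) [Field K] : ↥(blockSub K) →* Matrix (Fin 4) (Fin 4) K where
  toFun g := blockFun g.1
  map_one' := blockFun_one
  map_mul' a b := blockFun_mul a.2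

theorem node_coef : ∀ r ∈ sA 1 ++ sB 1,
    coef chevF4 F4.cert 0 r = 0 ∧ coef chevF4 F4.cert 3 r = 0 := by decide +kernel

theorem root_block {r : ℕ} (hr : r ∈ sA 1 ++ sB 1) (hlt : r < chevF4.nroots) {g : GL chevF4.Idx K} {t : K}
    (hg : (g : Matrix chevF4.Idx chevF4.Idx K) = chevF4.x K r t) : g ∈ blockSub K := by
  have key : ∀ j, j < chevF4.rank → coef chevF4 F4.cert j r = 0 → g ∈ gradedGroup chevF4 K (grade j) := by
    intro j hj h0
    refine mem_gradedGroup_iff.2 fun y x hne => ?_
    rw [hg] at hne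
    rcases checked_F4.x_entry hlt t hne with e | ⟨k, -, hφ⟩
    · rw [e]
    · rw [grade, hφ _ (checked_F4.isAdd_coef hj), h0, mul_zero, add_zero]
  exact ⟨key 0 (by decide) (node_coef r hr).1, key 3 (by decide) (node_coef r hr).2⟩

theorem node_le_block : rg K (sA 1) ⊔ rg K (sB 1) ≤ blockSub K := by
  refine sup_le ((Subgroup.closure_le _).2 ?_) ((Subgroup.closure_le _).2 ?_)
  · rintro x ⟨r, t, hr, e⟩
    exact root_block (List.mem_append_left _ hr) (sA_lt 1 r hr) e
  · rintro x ⟨r, t, hr, e⟩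
    exact root_block (List.mem_append_right _ hr) (sB_lt 1 r hr) e

theorem torus_block (c : ℕ → Kˣ) : torusHom chevF4 K c ∈ blockSub K := by
  have key : ∀ w : chevF4.Idx → ℤ, torusHom chevF4 K c ∈ gradedGroup chevF4 K w := fun w =>
    mem_gradedGroup_iff.2 fun y x hne => by
      rw [coe_torusHom] at hne
      by_contra e
      exact hne (isDiag_charDiag _ fun e' => e (by rw [e']))
  exact ⟨key _, key _⟩

theorem blockFun_torus (c : ℕ → Kˣ) : blockFun (torusHom chevF4 K c) =
    Matrix.diagonal ![(torusFun chevF4 c 33 : K), torusFun chevF4 c 34, torusFun chevF4 c 35,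
      torusFun chevF4 c 37] := by
  ext i j
  rw [blockFun, Matrix.of_apply, coe_torusHom, ChevalleyDatum.charDiag]
  fin_cases i <;> fin_cases j <;> simp [blk, Matrix.diagonal]

/-- The terms of a root element in the block. -/
def blkTerms (r : ℕ) : List (Fin 4 × Fin 4) :=
  match r with
  | 25 => [(2, 1)]
  | 27 => [(1, 0), (3, 2)]
  | 28 => [(2, 0), (3, 1)]
  | 30 => [(3, 0)]
  | 22 => [(1, 2)]
  | 20 => [(0, 1), (2, 3)]
  | 19 => [(0, 2), (1, 3)]
  | 17 => [(0, 3)]
  | _ => []

theorem chain_vals : ∀ r ∈ [25, 27, 28, 30, 17, 19, 20, 22], ∀ i j : Fin 4,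
    ((chevF4.chainCoeff r (![33, 34, 35, 37] j) (![33, 34, 35, 37] i)).map fun km => (km.1, km.2.natAbs)) =
      (if (i, j) ∈ blkTerms r then [(1, 1)] else []) ∧ ![33, 34, 35, 37] j ≠ r ∧
      ![33, 34, 35, 37] j ≠ chevF4.negIdx.getD r 0 := by decide +kernel

section

variable [CharP K 2]

theorem cast_of_natAbs {M : ℤ} (h : M.natAbs = 1) : (M : K) = 1 := by
  rcases Int.natAbs_eq M with e | e <;> rw [h] at e <;> rw [e] <;> simp [CharTwo.neg_eq]

theorem blockFun_root {r : ℕ} (hr : r ∈ [25, 27, 28, 30, 17, 19, 20, 22]) (t : K) :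
    blockFun ((xG checked_F4 r t : ↥(chevF4.group K)) : GL chevF4.Idx K) =
      Matrix.of fun i j => (if i = j then 1 else 0) + if (i, j) ∈ blkTerms r then t else 0 := by
  have hlt : r < chevF4.nroots := (by decide : ∀ r ∈ [25, 27, 28, 30, 17, 19, 20, 22], r < 48) r hr
  ext i j
  obtain ⟨hc, h1, h2⟩ := chain_vals r hr i j
  rw [blockFun, Matrix.of_apply, coe_xG, ChevalleyDatum.x, dif_pos hlt, Matrix.of_apply]
  simp only [ChevalleyDatum.xMat, Matrix.of_apply, blk]
  rw [if_neg (fun e => h1 (congrArg Fin.val e)), if_neg h2]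
  congr 1
  · by_cases hij : i = j
    · subst hij; simp
    · rw [if_neg hij, if_neg]
      intro e
      exact hij (blk_injective (by simp only [blk]; rw [e]))
  · revert hc
    generalize chevF4.chainCoeff r _ _ = l
    intro hc
    split_ifs at hc ⊢ with hm
    · obtain ⟨⟨k, M⟩, rfl, hkM⟩ : ∃ x, l = [x] ∧ (x.1, x.2.natAbs) = (1, 1) :=
        List.map_eq_singleton_iff.1 hc
      simp only [Prod.mk.injEq] at hkM
      simp [hkM.1, cast_of_natAbs (K := K) hkM.2]
    · simp [List.map_eq_nil_iff.1 hc]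

theorem blockFun_classU (e : ℕ) (t u : K) :
    blockFun ((classU e t u : ↥(chevF4.group K)) : GL chevF4.Idx K) =
      !![1, 0, 0, 0; t ^ e, 1, 0, 0; t ^ (e + 1) + u, t, 1, 0;
        u ^ (2 * e) + t ^ e * (t ^ (e + 1) + u), u, t ^ e, 1] := by
  have hm : ∀ r (s : K), r ∈ sA 1 ++ sB 1 →
      ((xG checked_F4 r s : ↥(chevF4.group K)) : GL chevF4.Idx K) ∈ blockSub K := fun r s hr =>
    root_block hr ((by decide : ∀ r ∈ sA 1 ++ sB 1, r < 48) r hr) (coe_xG _ r s)
  rw [show classU e t u = xG checked_F4 27 (t ^ e) * (xG checked_F4 25 t *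
    (xG checked_F4 28 (t ^ (e + 1) + u) * xG checked_F4 30 (u ^ (2 * e)))) by
      simp [classU, wordG, b2ClassWord, f4a, f4b, f4ab, f4aab]]
  rw [Subgroup.coe_mul, Subgroup.coe_mul, Subgroup.coe_mul, blockFun_mul (hm 27 _ (by decide)),
    blockFun_mul (hm 25 _ (by decide)), blockFun_mul (hm 28 _ (by decide)), blockFun_root (r := 27) (by simp),
    blockFun_root (r := 25) (by simp), blockFun_root (r := 28) (by simp), blockFun_root (r := 30) (by simp)]
  ext i j
  fin_cases i <;> fin_cases j <;>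
    simp [Matrix.mul_apply, Fin.sum_univ_four, blkTerms, pow_succ] <;>
    ring_nf <;> simp [CharTwo.two_eq_zero]


omit [CharP K 2] in
theorem classU_mem_block (e : ℕ) (t u : K) :
    ((classU e t u : ↥(chevF4.group K)) : GL chevF4.Idx K) ∈ blockSub K :=
  node_le_block (Subgroup.mem_sup_left (rg_mono (L := [25, 27, 28, 30]) (fun _ h => h) (classU_mem_set e t u)))

/-- The block of the representative of the node. -/
theorem blockFun_nQ : blockFun ((nQ (K := K) : ↥(chevF4.group K)) : GL chevF4.Idx K) =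
    !![0, 0, 0, 1; 0, 0, 1, 0; 0, 1, 0, 0; 1, 0, 0, 0] := by
  have e1 : classV 2 (0 : K) 1 = xG checked_F4 19 1 * xG checked_F4 17 1 := by
    simp [classV, wordG, b2ClassWord, f4ma, f4mb, f4mab, f4maab,
      xG_zero checked_F4 (show 20 < chevF4.nroots by decide), xG_zero checked_F4 (show 22 < chevF4.nroots by decide)]
  have hm : ((xG checked_F4 19 (1 : K) : ↥(chevF4.group K)) : GL chevF4.Idx K) ∈ blockSub K :=
    root_block (r := 19) (by decide) (by decide) (coe_xG _ 19 1)
  have hv : ((classV 2 (0 : K) 1 : ↥(chevF4.group K)) : GL chevF4.Idx K) ∈ blockSub K := by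
    rw [e1, Subgroup.coe_mul]
    exact mul_mem hm (root_block (r := 17) (by decide) (by decide) (coe_xG _ 17 1))
  rw [nQ_eq (e := 2) two_ne_zero, Subgroup.coe_mul, Subgroup.coe_mul,
    blockFun_mul (mul_mem (classU_mem_block 2 1 0) hv), blockFun_mul (classU_mem_block 2 1 0), blockFun_classU,
    blockFun_classU, e1, Subgroup.coe_mul, blockFun_mul hm, blockFun_root (r := 19) (by simp),
    blockFun_root (r := 17) (by simp)]
  ext i j
  fin_cases i <;> fin_cases j <;>
    simp [Matrix.mul_apply, Matrix.vecMul, dotProduct, Fin.sum_univ_four, blkTerms, CharTwo.add_self_eq_zero] <;>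
    ring_nf <;> simp [CharTwo.two_eq_zero]

end

end Cfsg.Agent.Lib.ThompsonF4
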