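import Cfsg.Agent.Lib.ThompsonF4.EightGen

/-!
The covering for `²F₄(8)`: an element of order `91` in the Levi group of the node `1` (helper32).
-/

set_option autoImplicit false

namespace Cfsg.Agent.Lib.ThompsonF4.Eight

open Cfsg.Lie Cfsg.Agent.Lib.Chev Cfsg.Agent.Lib.Twisted Cfsg.Agent.Lib.Twisted.Core
open Cfsg.Agent.Lib.Twisted.ReeF Coded

variable {K : Type*} [Field K] [CharP K 2]

/-- A generator of the field with `g³ = g + 1`. -/
theorem exists_gu [Fintype K] (hK : Fintype.card K = 2 ^ (2 * 1 + 1)) :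
    ∃ gu : Kˣ, (gu : K) ^ 3 = gu + 1 ∧ ∀ s : Kˣ, ∃ i < 7, s = gu ^ i := by
  have h7 : Nat.card Kˣ = 7 := by rw [Nat.card_units, Nat.card_eq_fintype_card, hK]; norm_num
  have : Fact (Nat.Prime 7) := ⟨by norm_num⟩
  suffices ∃ gu : Kˣ, (gu : K) ^ 3 = gu + 1 by
    obtain ⟨gu, hg⟩ := this
    refine ⟨gu, hg, fun s => ?_⟩
    have hne : gu ≠ 1 := fun e => by
      rw [e, Units.val_one, one_pow, CharTwo.add_self_eq_zero] at hg
      exact one_ne_zero hg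
    have hs : s ∈ Subgroup.zpowers gu := mem_zpowers_of_prime_card h7 hne
    obtain ⟨n, rfl⟩ := Subgroup.mem_zpowers_iff.1 hs
    refine ⟨(n % 7).toNat, by omega, ?_⟩
    have e7 : gu ^ 7 = 1 := by rw [← h7]; exact pow_card_eq_one'
    rw [← zpow_natCast, Int.toNat_of_nonneg (Int.emod_nonneg _ (by norm_num)), zpow_eq_zpow_emod' n e7]
    rfl
  obtain ⟨a, ha⟩ : ∃ a : Kˣ, a ≠ 1 := by
    have : Nontrivial Kˣ := Finite.one_lt_card_iff_nontrivial.1 (by rw [h7]; norm_num)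
    exact exists_ne 1
  have e7 : (a : K) ^ 7 = 1 := by
    rw [← Units.val_pow_eq_pow_val, ← h7, pow_card_eq_one', Units.val_one]
  have hp : ((a : K) - 1) * (((a : K) ^ 3 + a + 1) * ((a : K) ^ 3 + (a : K) ^ 2 + 1)) = 0 := by
    have h2 : (2 : K) = 0 := CharTwo.two_eq_zero
    linear_combination e7 + ((a : K) ^ 4 - (a : K) ^ 3) * h2
  rcases mul_eq_zero.1 hp with h | h
  · exact absurd (Units.ext (sub_eq_zero.1 h)) ha
  rcases mul_eq_zero.1 h with h | h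
  · exact ⟨a, by linear_combination h - ((a : K) + 1) * (CharTwo.two_eq_zero : (2 : K) = 0)⟩
  · refine ⟨a⁻¹, ?_⟩
    have hne := a.ne_zero
    rw [Units.val_inv_eq_inv_val]
    field_simp
    linear_combination h - ((a : K) ^ 3 + (a : K) ^ 2) * (CharTwo.two_eq_zero : (2 : K) = 0)

variable {σ : ↥(chevF4.group K) →* ↥(chevF4.group K)} (hσ : IsReeSigma (2 ^ 1) σ)
  (he : ∀ x : K, x ^ (2 * (2 ^ 1 * 2 ^ 1)) = x) [Fintype K] (hK : Fintype.card K = 2 ^ (2 * 1 + 1))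
  {gu : Kˣ} (hg : (gu : K) ^ 3 = gu + 1) (hsur : ∀ s : Kˣ, ∃ i < 7, s = gu ^ i)
include hσ he hK hg

theorem exists_aG {a : RG K 1} (ha : a ∈ sg K 1 (sA 1)) : ∃ t < 8, ∃ u < 8, a = aG gu t u := by
  have hfix := le_fixSub hσ he a.2
  obtain ⟨t, u, e⟩ := exists_classU hσ (g := ⟨a.1, fixSub_le σ hfix⟩) ha (mem_fixSub.1 hfix)
  have hK8 : Fintype.card K = 8 := by rw [hK]; norm_num
  obtain ⟨i, hi, rfl⟩ := io_surj hg hK8 t
  obtain ⟨j, hj, rfl⟩ := io_surj hg hK8 u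
  exact ⟨i, hi, j, hj, Subtype.ext (congrArg (fun z : ↥(chevF4.group K) => (z : GL chevF4.Idx K)) e :)⟩

include hsur

theorem exists_dG {h : RG K 1} (hh : h ∈ tor K 1) : ∃ i < 7, ∃ j < 7, h = dG hσ he gu i j := by
  obtain ⟨s, t, rfl⟩ := exists_coord hσ he hh
  obtain ⟨i, hi, rfl⟩ := hsur s
  obtain ⟨j, hj, rfl⟩ := hsur t
  exact ⟨i, hi, j, hj, rfl⟩

omit hg hsur in
theorem levi_cell {x : RG K 1} (hx : x ∈ levi K) : (frame hσ he).Cell 1 x := by
  set Φ := frame hσ he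
  suffices ∀ y, Φ.Cell 1 y → Φ.Cell 1 (x * y) from by
    simpa using this 1 ⟨1, one_mem _, 1, one_mem _, Or.inl (by simp)⟩
  induction hx using Subgroup.closure_induction'' with
  | mem y hy =>
    rcases hy with h | h | h
    · exact fun z => Φ.cell_A_mul h
    · exact fun z => Φ.cell_B_mul h
    · exact fun z => Φ.cell_H_mul h
  | inv_mem y hy =>
    rcases hy with h | h | h
    · exact fun z => Φ.cell_A_mul (inv_mem (show y ∈ Φ.A 1 from h))
    · exact fun z => Φ.cell_B_mul (inv_mem (show y ∈ Φ.B 1 from h))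
    · exact fun z => Φ.cell_H_mul (inv_mem (show y ∈ Φ.H from h))
  | one => intro z hz; simpa using hz
  | mul a b _ _ ha hb => intro z hz; rw [mul_assoc]; exact ha _ (hb _ hz)

theorem block_kernel {x : RG K 1} (hx : x ∈ levi K) (h : blockFun (x : GL chevF4.Idx K) = 1) : x = 1 := by
  have ker := fun (t u i j : ℕ) (ht : t < 8) (hu : u < 8) (hi : i < 7) (hj : j < 7) => by
    have := List.all_eq_true.1 ker_ok (49 * (8 * t + u) + (7 * i + j)) (List.mem_range.2 (by omega))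
    rw [chkKer, show (49 * (8 * t + u) + (7 * i + j)) / 49 / 8 = t by omega,
      show (49 * (8 * t + u) + (7 * i + j)) / 49 % 8 = u by omega,
      show (49 * (8 * t + u) + (7 * i + j)) % 49 / 7 = i by omega,
      show (49 * (8 * t + u) + (7 * i + j)) % 7 = j by omega] at this
    exact this
  obtain ⟨a, ha, k, hk, hcase⟩ := levi_cell hσ he hK hx
  obtain ⟨i, hi, j, hj, rfl⟩ := exists_dG hσ he hK hg hsur hk
  have hd := rp_dG hσ he hK gu hg hi hj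
  rcases hcase with rfl | ⟨a', ha', rfl⟩
  · obtain ⟨t, ht, u, hu, rfl⟩ := exists_aG hσ he hK hg ha
    have hm := Rp.mul gu hg (rp_aG gu hg ht hu) hd
    have e : mulF (aC t u) (dC i j) = oneL := eq_of_toM' hg hm.2.1 ok_oneL (by rw [← hm.2.2, h, toM_one])
    have := ker t u i j ht hu hi hj
    simp [e] at this
    obtain ⟨⟨⟨rfl, rfl⟩, rfl, rfl⟩, -⟩ : ((t = 0 ∧ u = 0) ∧ i = 0 ∧ j = 0) ∧ True := ⟨by omega, trivial⟩
    refine Subtype.ext ?_
    show ((classU _ _ _ : ↥(chevF4.group K)) : GL chevF4.Idx K) * _ = 1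
    rw [io_zero, classU_eq]
    simp [srtQ, wordG, dG, xG_zero checked_F4 (show 25 < chevF4.nroots by decide),
      xG_zero checked_F4 (show 27 < chevF4.nroots by decide), xG_zero checked_F4 (show 28 < chevF4.nroots by decide),
      xG_zero checked_F4 (show 30 < chevF4.nroots by decide)]
  · exfalso
    have hab : a' * a ∈ (frame hσ he).A 1 := mul_mem ha' ha
    obtain ⟨t, ht, u, hu, e'⟩ := exists_aG hσ he hK hg hab
    have hm := Rp.mul gu hg (Rp.mul gu hg hd (rp_nR gu hg)) (rp_aG gu hg ht hu)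
    have hb : ∀ y : RG K 1, y ∈ sg K 1 (sA 1) → (y : GL chevF4.Idx K) ∈ blockSub K := fun y hy =>
      levi_block (mem_levi (Or.inl hy))
    have h1 : blockFun ((dG hσ he gu i j * nR 1 * aG gu t u : RG K 1) : GL chevF4.Idx K) = 1 := by
      have : dG hσ he gu i j * nR 1 * aG gu t u = a⁻¹ * (a * dG hσ he gu i j * (frame hσ he).n 1 * a') * a := by
        rw [← e', show (frame hσ he).n 1 = nR 1 from rfl]; group
      rw [this, Subgroup.coe_mul, Subgroup.coe_mul, blockFun_mul (mul_mem (hb _ (inv_mem ha)) (levi_block hx)),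
        blockFun_mul (hb _ (inv_mem ha)), h, mul_one, ← blockFun_mul (hb _ (inv_mem ha)), ← Subgroup.coe_mul,
        inv_mul_cancel, Subgroup.coe_one, blockFun_one]
    have e : mulF (mulF (dC i j) nC) (aC t u) = oneL :=
      eq_of_toM' hg hm.2.1 ok_oneL (by rw [← hm.2.2, h1, toM_one])
    have := ker t u i j ht hu hi hj
    simp [e] at this

theorem levi_ext {x y : RG K 1} {l : Code} (hx : x ∈ levi K) (hy : y ∈ levi K) (h1 : Rp gu x l) (h2 : Rp gu y l) :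
    x = y := by
  refine (inv_mul_eq_one.1 (block_kernel hσ he hK hg hsur (mul_mem (inv_mem hx) hy) ?_))
  rw [Subgroup.coe_mul, blockFun_mul (levi_block (inv_mem hx)), h2.2.2, ← h1.2.2,
    ← blockFun_mul (levi_block (inv_mem hx)), ← Subgroup.coe_mul, inv_mul_cancel, Subgroup.coe_one, blockFun_one]

theorem nR_one_sq : (nR 1 : RG K 1) * nR 1 = 1 := by
  refine levi_ext hσ he hK hg hsur (mul_mem n_levi n_levi) (one_mem _) (l := oneL) ?_ (rp_one gu hg)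
  have := Rp.mul gu hg (rp_nR gu hg) (rp_nR gu hg)
  rwa [nC_sq] at this

theorem tgt_cover {k : ℕ} (hk : k < 512) : ∃ c₁ ∈ levi K, ∃ c₂ ∈ levi K,
    tgtG hσ he gu k = (c₁ * sG gu * c₁⁻¹) * (c₂ * sG gu * c₂⁻¹) := by
  have h := List.all_eq_true.1 wit_ok k (List.mem_range.2 hk)
  unfold chkWit at h
  rcases hw : wit.getD k (0, 0, 0, 0) with ⟨a, b, c, d⟩
  rw [hw] at h
  simp only [Bool.and_eq_true, decide_eq_true_eq, beq_iff_eq] at h
  obtain ⟨⟨⟨⟨ha, hb, hc, hd⟩, e1⟩, e2⟩, e3⟩ := h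
  have hG := fun (i : ℕ) (hi : i < 29120) => rp_elG hσ he hK gu hg hi
  have hL := elG_levi hσ he gu
  have inv : ∀ i j, i < 29120 → j < 29120 → mulF (elC i) (elC j) = oneL →
      (elG hσ he gu i)⁻¹ = elG hσ he gu j := fun i j hi hj e =>
    inv_eq_of_mul_eq_one_right (levi_ext hσ he hK hg hsur (mul_mem (hL i) (hL j)) (one_mem _)
      (e ▸ Rp.mul gu hg (hG i hi) (hG j hj)) (rp_one gu hg))
  refine ⟨_, hL a, _, hL c, ?_⟩
  rw [inv a b ha hb e1, inv c d hc hd e2]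
  refine levi_ext hσ he hK hg hsur (tgtG_levi hσ he gu k)
    (mul_mem (mul_mem (mul_mem (hL a) (sG_levi gu)) (hL b)) (mul_mem (mul_mem (hL c) (sG_levi gu)) (hL d)))
    (rp_tgtG hσ he hK gu hg hk) ?_
  rw [← e3]
  exact Rp.mul gu hg (Rp.mul gu hg (Rp.mul gu hg (hG a ha) (rp_sG gu hg)) (hG b hb))
    (Rp.mul gu hg (Rp.mul gu hg (hG c hc) (rp_sG gu hg)) (hG d hd))

omit hsur in
theorem lo_form {a : RG K 1} (ha : a ∈ sg K 1 (sA 1)) {j : ℕ} (hj : j < 7) :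
    ∃ k < 448, a * dG hσ he gu 0 j = loG hσ he gu k := by
  obtain ⟨t, ht, u, hu, rfl⟩ := exists_aG hσ he hK hg ha
  refine ⟨64 * j + (8 * t + u), by omega, ?_⟩
  rw [loG, show (64 * j + (8 * t + u)) % 64 / 8 = t by omega, show (64 * j + (8 * t + u)) % 8 = u by omega,
    show (64 * j + (8 * t + u)) / 64 = j by omega]

theorem node_cover {b τ a : RG K 1} (hb : b ∈ sg K 1 (sB 1)) (hτ : τ ∈ (frame hσ he).T 1)
    (ha : a ∈ sg K 1 (sA 1)) : ∃ c₁ ∈ levi K, ∃ c₂ ∈ levi K,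
      b * τ * a = (c₁ * sG gu * c₁⁻¹) * (c₂ * sG gu * c₂⁻¹) := by
  set Φ := frame hσ he
  set n : RG K 1 := nR 1
  have hτH : τ ∈ tor K 1 := Φ.T_le 1 hτ
  by_cases hb1 : b = 1
  · subst hb1
    obtain ⟨s, rfl⟩ := hτ
    obtain ⟨j, hj, rfl⟩ := hsur s
    obtain ⟨k, hk, e⟩ := lo_form hσ he hK hg
      (Φ.normA 1 _ hτH a ha) hj
    obtain ⟨c₁, h₁, c₂, h₂, e'⟩ := tgt_cover hσ he hK hg hsur (k := k) (by omega)
    refine ⟨c₁, h₁, c₂, h₂, ?_⟩
    rw [← e', tgtG, if_pos hk, ← e, one_mul]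
    have : dG hσ he gu 0 j = cHom hσ he 1 (gu ^ j) := by simp [dG]
    rw [this]; group
  · have hn2 : n⁻¹ = n := inv_eq_of_mul_eq_one_right (nR_one_sq hσ he hK hg hsur)
    obtain ⟨t, ht, u, hu, eb⟩ := exists_aG hσ he hK hg (Φ.n_conj' 1 b hb)
    have eb' : b = n * aG gu t u * n := by
      conv_lhs => rw [show b = n⁻¹ * (n * b * n⁻¹) * n by group]
      rw [show n * b * n⁻¹ = aG gu t u from eb, hn2]
    have hpos : 8 * t + u ≠ 0 := by
      intro e0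
      obtain ⟨rfl, rfl⟩ : t = 0 ∧ u = 0 := by omega
      apply hb1
      have : aG gu 0 0 = (1 : RG K 1) := by
        refine Subtype.ext ?_
        show ((classU _ _ _ : ↥(chevF4.group K)) : GL chevF4.Idx K) = 1
        rw [io_zero, classU_eq]
        simp [srtQ, wordG, xG_zero checked_F4 (show 25 < chevF4.nroots by decide),
          xG_zero checked_F4 (show 27 < chevF4.nroots by decide), xG_zero checked_F4 (show 28 < chevF4.nroots by decide),
          xG_zero checked_F4 (show 30 < chevF4.nroots by decide)]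
      rw [eb', this, mul_one, nR_one_sq hσ he hK hg hsur]
    have hc := List.all_eq_true.1 br_ok (8 * t + u - 1) (List.mem_range.2 (by omega))
    simp only [chkBr, Bool.and_eq_true, decide_eq_true_eq, beq_iff_eq,
      show (8 * t + u - 1 + 1) / 8 = t by omega, show (8 * t + u - 1 + 1) % 8 = u by omega] at hc
    obtain ⟨⟨hlo, hhi⟩, ec⟩ := hc
    set q := br.getD (8 * t + u - 1) 0
    have hn := n_levi (K := K)
    have eq1 : b = elG hσ he gu q := by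
      refine levi_ext hσ he hK hg hsur (mem_levi (Or.inr (Or.inl hb))) (elG_levi hσ he gu q) ?_
        (rp_elG hσ he hK gu hg hhi)
      rw [eb', ← ec]
      exact Rp.mul gu hg (Rp.mul gu hg (rp_nR gu hg) (rp_aG gu hg ht hu)) (rp_nR gu hg)
    rw [elG, if_neg (by omega), loG] at eq1
    set a₁ := aG gu ((q - 448) % 448 % 64 / 8) ((q - 448) % 448 % 8)
    set a₂ := aG gu ((q - 448) / 448 / 8) ((q - 448) / 448 % 8)
    have hd0 : dG hσ he gu 0 ((q - 448) % 448 / 64) = cHom hσ he 1 (gu ^ ((q - 448) % 448 / 64)) := by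
      simp [dG]
    rw [hd0] at eq1
    obtain ⟨s, rfl⟩ := hτ
    set s₁ := gu ^ ((q - 448) % 448 / 64)
    obtain ⟨r, hr⟩ := exists_sqrt he (s₁ * s⁻¹)⁻¹
    set R := cHom hσ he 1 r
    set τ₁ := cHom hσ he 1 s₁
    set T := cHom hσ he 1 s
    have hT : T ∈ tor K 1 := hτH
    have hR : R ∈ tor K 1 := Φ.T_le 1 ⟨r, rfl⟩
    have hRR : R * (τ₁ * T⁻¹) * R = 1 := by
      rw [← map_inv, ← map_mul, ← map_mul, ← map_mul, mul_comm r, mul_assoc, hr, mul_inv_cancel, map_one]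
    set a₅ := T⁻¹ * a₂ * T⁻¹⁻¹ * a * a₁
    have ha₅ : R * a₅ * R⁻¹ ∈ sg K 1 (sA 1) :=
      Φ.normA 1 R hR _ (mul_mem (mul_mem (Φ.normA 1 _ (inv_mem hT) a₂ (aG_mem gu _ _)) ha) (aG_mem gu _ _))
    obtain ⟨t', ht', u', hu', e5⟩ := exists_aG hσ he hK hg ha₅
    obtain ⟨c₁, h₁, c₂, h₂, e'⟩ := tgt_cover hσ he hK hg hsur (k := 448 + (8 * t' + u')) (by omega)
    rw [tgtG, if_neg (by omega), show (448 + (8 * t' + u') - 448) / 8 = t' by omega,
      show (448 + (8 * t' + u') - 448) % 8 = u' by omega, ← e5] at e'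
    set d := a₁ * R⁻¹
    have hdL : d ∈ levi K := mul_mem (mem_levi (Or.inl (aG_mem gu _ _))) (inv_mem (mem_levi (Or.inr (Or.inr hR))))
    refine ⟨d * c₁, mul_mem hdL h₁, d * c₂, mul_mem hdL h₂, ?_⟩
    have hnT : n * T = T⁻¹ * n := by
      calc n * T = n * T * n⁻¹ * n := by group
        _ = T⁻¹ * n := by rw [nR_inv hσ he 1 s]
    have hnR : n * R⁻¹ = R * n := by
      calc n * R⁻¹ = (n * R * n⁻¹)⁻¹ * n := by group
        _ = R * n := by rw [nR_inv hσ he 1 r, inv_inv]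
    change b = a₁ * τ₁ * n * a₂ at eq1
    calc b * T * a = a₁ * τ₁ * (n * T) * (T⁻¹ * a₂ * T⁻¹⁻¹ * a) := by rw [eq1]; group
      _ = d * (R * (τ₁ * T⁻¹) * R) * n * (R * a₅ * R⁻¹) * d⁻¹ := by
        rw [hnT]
        show _ = a₁ * R⁻¹ * (R * (τ₁ * T⁻¹) * R) * n * (R * a₅ * R⁻¹) * (a₁ * R⁻¹)⁻¹
        calc _ = a₁ * (τ₁ * T⁻¹) * n * R⁻¹ * R * a₅ * a₁⁻¹ := by simp only [a₅]; group
          _ = a₁ * (τ₁ * T⁻¹) * (R * n) * R * a₅ * a₁⁻¹ := by rw [← hnR]; group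
          _ = _ := by group
      _ = d * (n * (R * a₅ * R⁻¹)) * d⁻¹ := by rw [hRR]; group
      _ = _ := by rw [e']; group

theorem sG_pow : sG gu ^ 13 = (1 : RG K 1) := by
  have key : ∀ k, Rp gu (sG (K := K) gu ^ k) (Nat.iterate (fun l => mulF l sC) k oneL) := by
    intro k
    induction k with
    | zero => exact rp_one gu hg
    | succ k ih =>
      rw [Function.iterate_succ_apply', pow_succ]
      exact Rp.mul gu hg ih (rp_sG gu hg)
  exact levi_ext hσ he hK hg hsur (pow_mem (sG_levi gu) _) (one_mem _) (sC_pow ▸ key 13) (rp_one gu hg)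

omit [CharP K 2] [Fintype K] hσ he hK hg hsur in
theorem centraliser_exps : (∀ r ∈ sA 1 ++ sB 1,
    ((1 : ℤ) * (2 * chevF4.cartan 0 r + chevF4.cartan 3 r) +
      3 * (2 * chevF4.cartan 1 r + chevF4.cartan 2 r)) % 7 = 0) ∧
    (∀ r ∈ sP 1, ((1 : ℤ) * (2 * chevF4.cartan 0 r + chevF4.cartan 3 r) +
      3 * (2 * chevF4.cartan 1 r + chevF4.cartan 2 r)) % 7 ≠ 0) ∧
    (∀ r ∈ sM 1, ng chevF4 r ∈ sP 1) ∧ (sP 1).Pairwise (· < ·) ∧
    ((sP 1).all fun r => (sP 1).all fun s => (cTerms F4.cert r s).all fun c => decide (c.1 ∈ sP 1)) = true := by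
  decide +kernel

omit hsur in
theorem chi_z (r : ℕ) : torusFun chevF4 (quad (gu ^ 2 ^ 1) ((gu ^ 3) ^ 2 ^ 1) (gu ^ 3) gu) r =
    gu ^ (((1 : ℤ) * (2 * chevF4.cartan 0 r + chevF4.cartan 3 r) +
      3 * (2 * chevF4.cartan 1 r + chevF4.cartan 2 r)) % 7) := by
  rw [chi_quad, ← zpow_natCast gu 3, ← zpow_mul, ← zpow_add]
  rw [zpow_eq_zpow_emod' _ (gu_pow_seven hK gu hg)]
  push_cast
  ring_nf

omit hsur in
theorem chi_z_ne {r : ℕ} (hr : r ∈ sP 1) :
    torusFun chevF4 (quad (gu ^ 2 ^ 1) ((gu ^ 3) ^ 2 ^ 1) (gu ^ 3) gu) r ≠ 1 := by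
  rw [chi_z hσ he hK hg]
  intro h
  have hne : gu ≠ 1 := fun e => by
    rw [e, Units.val_one, one_pow, CharTwo.add_self_eq_zero] at hg
    exact one_ne_zero hg
  have ho : orderOf gu = 7 := orderOf_eq_prime (gu_pow_seven hK gu hg) hne
    (hp := ⟨by norm_num⟩)
  rw [← orderOf_dvd_iff_zpow_eq_one, ho] at h
  have h0 := centraliser_exps.2.1 r hr
  omega

/-- For `q = 8` every nontrivial element is a product of two conjugates of an element of order `91`. -/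
theorem exists_covering :
    ∃ x : RG K 1, Odd (orderOf x) ∧ ∀ g : RG K 1, g ≠ 1 → Good x g := by
  set Φ := frame hσ he
  have hm : (1 : ℕ) ≤ 1 := le_rfl
  obtain ⟨hs, hcen⟩ := rg_simple hσ he hm hK
  have := hs
  set z : RG K 1 := dG hσ he gu 1 3
  have hzT : z ∈ tor K 1 := dG_tor hσ he gu 1 3
  have hz : (z : GL chevF4.Idx K) = torusHom chevF4 K (quad (gu ^ 2 ^ 1) ((gu ^ 3) ^ 2 ^ 1) (gu ^ 3) gu) := by
    show ((ct (2 ^ 1) (gu ^ 1) 1 : ↥(chevF4.group K)) : GL chevF4.Idx K) * (ct (2 ^ 1) 1 (gu ^ 3) : ↥(chevF4.group K)) = _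
    rw [← Subgroup.coe_mul, ← ct_mul, mul_one, one_mul, pow_one gu, ct, coe_torusG]
  -- `z` centralises the Levi group
  have hroot : ∀ L, (∀ r ∈ L, r ∈ sA 1 ++ sB 1) → (∀ r ∈ L, r < chevF4.nroots) →
      rg K L ≤ Subgroup.centralizer {(z : GL chevF4.Idx K)} := by
    intro L hL hlt
    refine (Subgroup.closure_le _).2 ?_
    rintro g ⟨r, t, hr, eg⟩
    rw [SetLike.mem_coe, Subgroup.mem_centralizer_singleton_iff]
    refine Units.ext ?_
    have h1 := checked_F4.torus_mul_x (quad (gu ^ 2 ^ 1) ((gu ^ 3) ^ 2 ^ 1) (gu ^ 3) gu) (hlt r hr) t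
    rw [chi_z hσ he hK hg, centraliser_exps.1 r (hL r hr), zpow_zero, Units.val_one, one_mul, ← eg] at h1
    rw [Units.val_mul, Units.val_mul, hz, coe_torusHom]
    exact h1.symm
  have hcz : ∀ c ∈ levi K, c * z = z * c := by
    suffices levi K ≤ Subgroup.centralizer {z} from fun c hc =>
      Subgroup.mem_centralizer_singleton_iff.1 (this hc)
    refine (Subgroup.closure_le _).2 ?_
    intro c hc
    rw [SetLike.mem_coe, Subgroup.mem_centralizer_singleton_iff]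
    rcases hc with h | h | h
    · exact Subtype.ext (Subgroup.mem_centralizer_singleton_iff.1
        (hroot _ (fun r hr => List.mem_append_left _ hr) (sA_lt 1) h))
    · exact Subtype.ext (Subgroup.mem_centralizer_singleton_iff.1
        (hroot _ (fun r hr => List.mem_append_right _ hr) (sB_lt 1) h))
    · exact Φ.comm c h z hzT
  set S : RG K 1 := sG gu
  set x : RG K 1 := S * z
  have hSz : Commute S z := hcz S (sG_levi gu)
  have hz7 : z ^ 7 = 1 := by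
    show (cHom hσ he 0 (gu ^ 1) * cHom hσ he 1 (gu ^ 3)) ^ 7 = 1
    have hc : Commute (cHom hσ he 0 (gu ^ 1)) (cHom hσ he 1 (gu ^ 3)) :=
      Φ.comm _ (Φ.T_le 0 ⟨_, rfl⟩) _ (Φ.T_le 1 ⟨_, rfl⟩)
    have h7 := gu_pow_seven hK gu hg
    rw [hc.mul_pow, ← map_pow, ← map_pow, ← pow_mul, ← pow_mul, mul_comm 1, mul_comm 3, pow_mul, pow_mul, h7,
      one_pow, one_pow, map_one, map_one, one_mul]
  have hx13 : x ^ 13 = z⁻¹ := by
    rw [hSz.mul_pow, sG_pow hσ he hK hg hsur, one_mul, eq_inv_iff_mul_eq_one, ← pow_succ,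
      show 13 + 1 = 7 * 2 from rfl, pow_mul, hz7, one_pow]
  have hodd : Odd (orderOf x) := by
    refine (show Odd 91 from ⟨45, rfl⟩).of_dvd_nat (orderOf_dvd_of_pow_eq_one ?_)
    rw [show 91 = 13 * 7 from rfl, pow_mul, hx13, inv_pow, hz7, inv_one]
  refine ⟨x, hodd, fun g hg1 => ?_⟩
  obtain ⟨v, u, y, hy, hr⟩ := Φ.exists_rep_coset (i := 0) (j := 1) hcen (frame_proper hσ he).1
    (frame_proper hσ he).2 (frame_sep hσ he hK) (frame_torus hσ he hm hK) (tor_split hσ he)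
    (τ := cHom hσ he 0 (gu ^ 2)) ⟨_, rfl⟩ hg1
  obtain ⟨hv, -, hu, hgc⟩ := hr
  obtain ⟨m, hm', b, hb, rfl⟩ := Φ.splitV 1 v hv
  obtain ⟨a, ha, p, hp, rfl⟩ := Φ.splitU 1 u hu
  set τ := (cHom hσ he 1 (gu ^ 6))⁻¹ * y
  have hτ : τ ∈ Φ.T 1 := mul_mem (inv_mem ⟨_, rfl⟩) hy
  obtain ⟨c₁, h₁, c₂, h₂, e⟩ := node_cover hσ he hK hg hsur hb hτ ha
  have hzz : cHom hσ he 0 (gu ^ 2) * y = τ * (z * z) := by
    have hc : ∀ p ∈ tor K 1, ∀ q ∈ tor K 1, p * q = q * p := Φ.comm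
    have hA : cHom hσ he 0 (gu ^ 1) ∈ tor K 1 := Φ.T_le 0 ⟨_, rfl⟩
    have hB : cHom hσ he 1 (gu ^ 3) ∈ tor K 1 := Φ.T_le 1 ⟨_, rfl⟩
    have hzz' : z * z = cHom hσ he 1 (gu ^ 6) * cHom hσ he 0 (gu ^ 2) := by
      show (cHom hσ he 0 (gu ^ 1) * cHom hσ he 1 (gu ^ 3)) * (cHom hσ he 0 (gu ^ 1) * cHom hσ he 1 (gu ^ 3)) = _
      rw [show gu ^ 6 = gu ^ 3 * gu ^ 3 by rw [← pow_add], show gu ^ 2 = gu ^ 1 * gu ^ 1 by rw [← pow_add],
        map_mul, map_mul, hc _ hA _ hB]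
      rw [mul_assoc, ← mul_assoc (cHom hσ he 0 (gu ^ 1)), hc _ hA _ hB]
      group
    rw [hzz', hc τ (Φ.T_le 1 hτ) _ (mul_mem (Φ.T_le 1 ⟨_, rfl⟩) (Φ.T_le 0 ⟨_, rfl⟩))]
    show _ = _ * ((cHom hσ he 1 (gu ^ 6))⁻¹ * y)
    rw [hc _ (Φ.T_le 1 ⟨gu ^ 6, rfl⟩) _ (Φ.T_le 0 ⟨gu ^ 2, rfl⟩)]
    group
  have hL : ∀ c ∈ levi K, ∀ q : RG K 1, (q ∈ sg K 1 (sP 1) → c * q * c⁻¹ ∈ sg K 1 (sP 1)) ∧
      (q ∈ sg K 1 (sM 1) → c * q * c⁻¹ ∈ sg K 1 (sM 1)) := by
    intro c hc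
    induction hc using Subgroup.closure_induction'' with
    | mem y hy => exact fun q => ⟨(stab_lists 1 y hy).1 q, (stab_lists 1 y hy).2 q⟩
    | inv_mem y hy =>
      have hy' : y⁻¹ ∈ sg K 1 (sA 1) ∨ y⁻¹ ∈ sg K 1 (sB 1) ∨ y⁻¹ ∈ tor K 1 := by
        rcases hy with h | h | h
        · exact Or.inl (inv_mem h)
        · exact Or.inr (Or.inl (inv_mem h))
        · exact Or.inr (Or.inr (inv_mem h))
      exact fun q => ⟨(stab_lists 1 _ hy').1 q, (stab_lists 1 _ hy').2 q⟩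
    | one => exact fun q => ⟨by simp, by simp⟩
    | mul y z _ _ hy hz =>
      intro q
      constructor
      · intro hq; convert (hy _).1 ((hz q).1 hq) using 1; group
      · intro hq; convert (hy _).2 ((hz q).2 hq) using 1; group
  have hxL : x ∈ levi K := mul_mem (sG_levi gu) (mem_levi (Or.inr (Or.inr hzT)))
  have hfix : ∀ c ∈ levi K, ∀ w : RG K 1, w * (c * x * c⁻¹) = c * x * c⁻¹ * w →
      (c⁻¹ * w * c) * z = z * (c⁻¹ * w * c) := by
    intro c _ w hw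
    have h1 : Commute (c⁻¹ * w * c) x := by
      show c⁻¹ * w * c * x = x * (c⁻¹ * w * c)
      calc c⁻¹ * w * c * x = c⁻¹ * (w * (c * x * c⁻¹)) * c := by group
        _ = _ := by rw [hw]; group
    have h2 := h1.pow_right 13
    rw [hx13] at h2
    exact (Commute.inv_right_iff.1 h2).eq
  have hP : ∀ c ∈ levi K, ∀ w ∈ sg K 1 (sP 1), w * (c * x * c⁻¹) = c * x * c⁻¹ * w → w = 1 := by
    intro c hc w hw hcomm
    have h1 : c⁻¹ * w * c ∈ sg K 1 (sP 1) := by simpa using (hL c⁻¹ (inv_mem hc) w).1 hw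
    have h2 : c⁻¹ * w * c = 1 := by
      refine Subtype.ext (cent_pos centraliser_exps.2.2.2.1 (sub_pos 1).2 centraliser_exps.2.2.2.2 _
        (fun r hr => chi_z_ne hσ he hK hg hr) h1 ?_)
      rw [← hz]
      exact (congrArg Subtype.val (hfix c hc w hcomm)).symm
    rw [← mul_inv_cancel_left c w, ← mul_inv_cancel_right (c⁻¹ * w) c, h2]; group
  have hM : ∀ c ∈ levi K, ∀ w ∈ sg K 1 (sM 1), w * (c * x * c⁻¹) = c * x * c⁻¹ * w → w = 1 := by
    intro c hc w hw hcomm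
    have h1 : c⁻¹ * w * c ∈ sg K 1 (sM 1) := by simpa using (hL c⁻¹ (inv_mem hc) w).2 hw
    have h2 : c⁻¹ * w * c = 1 := by
      refine Subtype.ext (cent_neg (m := 1) centraliser_exps.2.2.2.1 (sub_pos 1).2 centraliser_exps.2.2.2.2
        (sM_lt 1) centraliser_exps.2.2.1 gu (gu ^ 3) (fun r hr => chi_z_ne hσ he hK hg hr) h1 ?_)
      rw [ct, coe_torusG, ← hz]
      exact (congrArg Subtype.val (hfix c hc w hcomm)).symm
    rw [← mul_inv_cancel_left c w, ← mul_inv_cancel_right (c⁻¹ * w) c, h2]; group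
  set y₁ := c₁ * x * c₁⁻¹
  set y₂ := c₂ * x * c₂⁻¹
  have hy₁ : y₁ ∈ levi K := mul_mem (mul_mem h₁ hxL) (inv_mem h₁)
  have hy₂ : y₂ ∈ levi K := mul_mem (mul_mem h₂ hxL) (inv_mem h₂)
  obtain ⟨w₁, -, e₁⟩ := exists_absorb (x := y₁) (fun w hw => (hL y₁ hy₁ w).2 hw) (hM c₁ h₁) hm'
  obtain ⟨w₂, -, e₂⟩ := exists_absorb (x := y₂) (fun w hw => (hL y₂ hy₂ w).1 hw) (hP c₂ h₂)
    ((hL y₂ hy₂ p).1 hp)
  refine Good.of_cj hgc ⟨w₁ * c₁, w₂ * c₂, ?_⟩
  have haz : Commute a z := hcz a (mem_levi (Or.inl ha))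
  have hzc : ∀ c ∈ levi K, c * S * c⁻¹ * z = c * x * c⁻¹ := by
    intro c hc
    calc c * S * c⁻¹ * z = c * S * (c⁻¹ * z) := by group
      _ = c * S * (z * c⁻¹) := by rw [hcz _ (inv_mem hc)]
      _ = c * (S * z) * c⁻¹ := by group
  have hS2 : Commute (c₂ * S * c₂⁻¹) z := hcz _ (mul_mem (mul_mem h₂ (sG_levi gu)) (inv_mem h₂))
  have f₁ : w₁ * c₁ * x * (w₁ * c₁)⁻¹ = m * y₁ := by rw [← e₁]; simp only [y₁]; group
  have f₂ : w₂ * c₂ * x * (w₂ * c₂)⁻¹ = y₂ * p := by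
    rw [show y₂ * p = y₂ * p * y₂⁻¹ * y₂ by group, ← e₂]; simp only [y₂]; group
  rw [f₁, f₂, hzz]
  calc m * b * (τ * (z * z)) * (a * p) = m * (b * τ) * ((z * z) * a) * p := by group
    _ = m * (b * τ) * (a * (z * z)) * p := by rw [(haz.mul_right haz).eq]
    _ = m * ((c₁ * S * c₁⁻¹) * ((c₂ * S * c₂⁻¹) * z)) * z * p := by
      rw [show m * (b * τ) * (a * (z * z)) * p = m * (b * τ * a) * z * z * p by group, e]; simp only [S]; group
    _ = m * ((c₁ * S * c₁⁻¹) * (z * (c₂ * S * c₂⁻¹))) * z * p := by rw [hS2.eq]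
    _ = m * (c₁ * S * c₁⁻¹ * z) * (c₂ * S * c₂⁻¹ * z) * p := by group
    _ = _ := by rw [hzc c₁ h₁, hzc c₂ h₂]; simp only [y₁, y₂]; group

end Cfsg.Agent.Lib.ThompsonF4.Eight
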