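import Cfsg.Agent.Lib.ThompsonF4.Block
import Cfsg.Agent.Lib.ThompsonF4.EightData

/-!
The Levi group of the node `1` of `²F₄(8)` in coded form (helper32).
-/

set_option autoImplicit false

namespace Cfsg.Agent.Lib.ThompsonF4.Eight

open Cfsg.Lie Cfsg.Agent.Lib.Chev Cfsg.Agent.Lib.Twisted Cfsg.Agent.Lib.Twisted.Core
open Cfsg.Agent.Lib.Twisted.ReeF Coded

variable {K : Type*} [Field K] [CharP K 2]
  {σ : ↥(chevF4.group K) →* ↥(chevF4.group K)} (hσ : IsReeSigma (2 ^ 1) σ)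
  (he : ∀ x : K, x ^ (2 * (2 ^ 1 * 2 ^ 1)) = x) [Fintype K] (hK : Fintype.card K = 2 ^ (2 * 1 + 1))
  (gu : Kˣ) (hg : (gu : K) ^ 3 = gu + 1)

/-- An element of the positive group of the node. -/
noncomputable def aG (t u : ℕ) : RG K 1 :=
  ⟨_, classU_mem (m := 1) (io (gu : K) t) (io (gu : K) u)⟩

/-- A torus element. -/
noncomputable def dG (i j : ℕ) : RG K 1 := cHom hσ he 0 (gu ^ i) * cHom hσ he 1 (gu ^ j)

/-- An element of the small cell. -/
noncomputable def loG (k : ℕ) : RG K 1 := aG gu (k % 64 / 8) (k % 8) * dG hσ he gu 0 (k / 64)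

/-- The element of a given index. -/
noncomputable def elG (k : ℕ) : RG K 1 :=
  if k < 448 then loG hσ he gu k
  else loG hσ he gu ((k - 448) % 448) * nR 1 * aG gu ((k - 448) / 448 / 8) ((k - 448) / 448 % 8)

/-- The element of order `13`. -/
noncomputable def sG : RG K 1 := nR 1 * aG gu 0 3

/-- A target. -/
noncomputable def tgtG (k : ℕ) : RG K 1 :=
  if k < 448 then loG hσ he gu k else nR 1 * aG gu ((k - 448) / 8) ((k - 448) % 8)

/-- `x` lies in the block and has the code `l` there. -/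
def Rp (x : RG K 1) (l : Code) : Prop :=
  (x : GL chevF4.Idx K) ∈ blockSub K ∧ Ok l ∧ blockFun (x : GL chevF4.Idx K) = toM (gu : K) l

/-- The Levi group of the node. -/
def levi (K : Type*) [Field K] : Subgroup (RG K 1) :=
  Subgroup.closure {x | x ∈ sg K 1 (sA 1) ∨ x ∈ sg K 1 (sB 1) ∨ x ∈ tor K 1}

omit [CharP K 2] [Fintype K] in
theorem mem_levi {x : RG K 1} (h : x ∈ sg K 1 (sA 1) ∨ x ∈ sg K 1 (sB 1) ∨ x ∈ tor K 1) : x ∈ levi K :=
  Subgroup.subset_closure h

omit [Fintype K] in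
theorem n_levi : nR (K := K) (m := 1) 1 ∈ levi K := by
  obtain ⟨a, ha, b, hb, c, hc, e⟩ := nR_eq (K := K) (m := 1) 1
  rw [e]
  exact mul_mem (mul_mem (mem_levi (Or.inl ha)) (mem_levi (Or.inr (Or.inl hb)))) (mem_levi (Or.inl hc))

omit [CharP K 2] [Fintype K] in
theorem levi_block {x : RG K 1} (hx : x ∈ levi K) : (x : GL chevF4.Idx K) ∈ blockSub K := by
  suffices levi K ≤ (blockSub K).subgroupOf (twistedF4 K (2 ^ 1)) from this hx
  refine (Subgroup.closure_le _).2 ?_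
  rintro y (h | h | h)
  · exact node_le_block (Subgroup.mem_sup_left h)
  · exact node_le_block (Subgroup.mem_sup_right h)
  · rw [mem_tor, rooted_F4.diagonalSubgroup_eq] at h
    obtain ⟨c, hc⟩ := h
    show (y : GL chevF4.Idx K) ∈ blockSub K
    rw [← hc]; exact torus_block c

omit [Fintype K] in
theorem aG_mem (t u : ℕ) : aG gu t u ∈ sg K 1 (sA 1) := classU_rg _ _

omit [Fintype K] in
theorem dG_tor (i j : ℕ) : dG hσ he gu i j ∈ tor K 1 := by
  refine mul_mem ?_ ?_ <;> rw [mem_tor, coe_cHom] <;> exact ct_diag _ _ _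

omit [Fintype K] in
theorem loG_levi (k : ℕ) : loG hσ he gu k ∈ levi K :=
  mul_mem (mem_levi (Or.inl (aG_mem gu _ _))) (mem_levi (Or.inr (Or.inr (dG_tor hσ he gu _ _))))

omit [Fintype K] in
theorem elG_levi (k : ℕ) : elG hσ he gu k ∈ levi K := by
  unfold elG
  split_ifs
  · exact loG_levi hσ he gu k
  · exact mul_mem (mul_mem (loG_levi hσ he gu _) n_levi) (mem_levi (Or.inl (aG_mem gu _ _)))

omit [Fintype K] in
theorem sG_levi : sG gu ∈ levi K := mul_mem n_levi (mem_levi (Or.inl (aG_mem gu _ _)))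

omit [Fintype K] in
theorem tgtG_levi (k : ℕ) : tgtG hσ he gu k ∈ levi K := by
  unfold tgtG
  split_ifs
  · exact loG_levi hσ he gu k
  · exact mul_mem n_levi (mem_levi (Or.inl (aG_mem gu _ _)))

include hg

omit [Fintype K] in
theorem Rp.mul {x y : RG K 1} {a b : Code} (hx : Rp gu x a) (hy : Rp gu y b) : Rp gu (x * y) (mulF a b) := by
  refine ⟨mul_mem hx.1 hy.1, ok_mulF hx.2.1 hy.2.1, ?_⟩
  rw [Subgroup.coe_mul, blockFun_mul hx.1, hx.2.2, hy.2.2, toM_mulF hg hx.2.1 hy.2.1]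

omit [Fintype K] in
theorem rp_one : Rp gu (1 : RG K 1) oneL :=
  ⟨one_mem _, ok_oneL, by rw [Subgroup.coe_one, blockFun_one, toM_one]⟩

omit [Fintype K] in
theorem rp_aG {t u : ℕ} (ht : t < 8) (hu : u < 8) : Rp gu (aG gu t u) (aC t u) := by
  have hok : Ok (aC t u) := by
    refine ok_of_check ?_
    have := List.all_eq_true.1 small_ok.1 (8 * t + u) (List.mem_range.2 (by omega))
    rwa [show (8 * t + u) / 8 = t by omega, show (8 * t + u) % 8 = u by omega] at this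
  have e1 := io_mul (g := (gu : K)) hg (powC_lt ht 2) (code_bounds.2 _ (powC_lt ht 3) _ hu).2
  refine ⟨levi_block (mem_levi (Or.inl (aG_mem gu t u))), hok, ?_⟩
  show blockFun ((classU (2 ^ 1) _ _ : ↥(chevF4.group K)) : GL chevF4.Idx K) = _
  rw [blockFun_classU]
  ext i j
  fin_cases i <;> fin_cases j <;>
    simp [toM, ent, aC, io_zero, io_one, io_xor, io_pow hg, ht, hu, e1]

omit [CharP K 2] hg [Fintype K] in
theorem dexp : ∀ i j : Fin 7, ∀ q : Fin 4,
    (((i : ℕ) : ℤ) * (2 * chevF4.cartan 0 (![33, 34, 35, 37] q) + chevF4.cartan 3 (![33, 34, 35, 37] q)) +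
      ((j : ℕ) : ℤ) * (2 * chevF4.cartan 1 (![33, 34, 35, 37] q) + chevF4.cartan 2 (![33, 34, 35, 37] q))) % 7 =
    ((((i : ℕ) * ![4, 2, 1, 6] q + (j : ℕ) * ![5, 1, 6, 2] q) % 7 : ℕ) : ℤ) := by decide +kernel

include hK

theorem gu_pow_seven : gu ^ 7 = 1 := by
  have h : Nat.card Kˣ = 7 := by
    rw [Nat.card_units, Nat.card_eq_fintype_card, hK]; norm_num
  rw [← h]; exact pow_card_eq_one'

theorem rp_dG {i j : ℕ} (hi : i < 7) (hj : j < 7) : Rp gu (dG hσ he gu i j) (dC i j) := by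
  have hok : Ok (dC i j) := by
    refine ok_of_check ?_
    have := List.all_eq_true.1 small_ok.2.1 (7 * i + j) (List.mem_range.2 (by omega))
    rwa [show (7 * i + j) / 7 = i by omega, show (7 * i + j) % 7 = j by omega] at this
  refine ⟨levi_block (mem_levi (Or.inr (Or.inr (dG_tor hσ he gu i j)))), hok, ?_⟩
  have e : (dG hσ he gu i j : GL chevF4.Idx K) =
      torusHom chevF4 K (quad ((gu ^ i) ^ 2 ^ 1) ((gu ^ j) ^ 2 ^ 1) (gu ^ j) (gu ^ i)) := by
    show ((ct (2 ^ 1) (gu ^ i) 1 : ↥(chevF4.group K)) : GL chevF4.Idx K) * (ct (2 ^ 1) 1 (gu ^ j) : ↥(chevF4.group K)) = _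
    rw [← Subgroup.coe_mul, ← ct_mul, mul_one, one_mul, ct, coe_torusG]
  rw [e, blockFun_torus]
  have key : ∀ q : Fin 4, (torusFun chevF4 (quad ((gu ^ i) ^ 2 ^ 1) ((gu ^ j) ^ 2 ^ 1) (gu ^ j) (gu ^ i))
      (![33, 34, 35, 37] q) : K) = io (gu : K) (powC 2 ((i * ![4, 2, 1, 6] q + j * ![5, 1, 6, 2] q) % 7)) := by
    intro q
    rw [io_pow hg (by norm_num), io_two, chi_quad, ← zpow_natCast gu i, ← zpow_natCast gu j, ← zpow_mul,
      ← zpow_mul, ← zpow_add, zpow_eq_zpow_emod' _ (gu_pow_seven hK gu hg)]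
    push_cast
    rw [dexp ⟨i, hi⟩ ⟨j, hj⟩ q, zpow_natCast]
  ext a b
  fin_cases a <;> fin_cases b <;>
    simp [toM, ent, dC, io_zero, Matrix.diagonal] <;>
    first | simpa using key 0 | simpa using key 1 | simpa using key 2 | simpa using key 3

omit hK [Fintype K] in
theorem rp_nR : Rp gu (nR 1 : RG K 1) nC := by
  refine ⟨levi_block n_levi, ok_of_check small_ok.2.2, ?_⟩
  rw [coe_nR]
  show blockFun ((nQ (K := K) : ↥(chevF4.group K)) : GL chevF4.Idx K) = _
  rw [blockFun_nQ]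
  ext i j
  fin_cases i <;> fin_cases j <;> simp [toM, ent, nC, io_zero, io_one]

theorem rp_loG {k : ℕ} (hk : k < 448) : Rp gu (loG hσ he gu k) (loC k) :=
  Rp.mul gu hg (rp_aG gu hg (by omega) (by omega)) (rp_dG hσ he hK gu hg (by omega) (by omega))

theorem rp_elG {k : ℕ} (hk : k < 29120) : Rp gu (elG hσ he gu k) (elC k) := by
  unfold elG elC
  split_ifs with h
  · exact rp_loG hσ he hK gu hg h
  · exact Rp.mul gu hg (Rp.mul gu hg (rp_loG hσ he hK gu hg (by omega)) (rp_nR gu hg))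
      (rp_aG gu hg (by omega) (by omega))

omit hK [Fintype K] in
theorem rp_sG : Rp gu (sG gu) sC := Rp.mul gu hg (rp_nR gu hg) (rp_aG gu hg (by norm_num) (by norm_num))

theorem rp_tgtG {k : ℕ} (hk : k < 512) : Rp gu (tgtG hσ he gu k) (tgtC k) := by
  unfold tgtG tgtC
  split_ifs with h
  · exact rp_loG hσ he hK gu hg h
  · exact Rp.mul gu hg (rp_nR gu hg) (rp_aG gu hg (by omega) (by omega))

end Cfsg.Agent.Lib.ThompsonF4.Eight
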