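import Mathlib

/-!
Gauss forms `v h u` up to conjugacy in a group with rank one nodes, and their moves along a node. Only the
rank one Bruhat decomposition and the inversion of the node torus by its Weyl element are used (helper32).
-/

set_option autoImplicit false

namespace Cfsg.Agent.Lib.ThompsonF4

variable {G : Type*} [Group G]

/-- Conjugate. -/
def Cj (g h : G) : Prop := ∃ c : G, h = c * g * c⁻¹

theorem Cj.refl (g : G) : Cj g g := ⟨1, by simp⟩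

theorem Cj.conj {g h : G} (e : Cj g h) (c : G) : Cj g (c * h * c⁻¹) := by
  obtain ⟨d, rfl⟩ := e
  exact ⟨c * d, by group⟩

/-- A product of two conjugates of `x`. -/
def Good (x g : G) : Prop := ∃ u v : G, g = (u * x * u⁻¹) * (v * x * v⁻¹)

theorem Good.of_cj {x g h : G} (e : Cj g h) (hh : Good x h) : Good x g := by
  obtain ⟨c, rfl⟩ := e
  obtain ⟨u, v, e⟩ := hh
  refine ⟨c⁻¹ * u, c⁻¹ * v, ?_⟩
  calc g = c⁻¹ * (c * g * c⁻¹) * c := by group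
    _ = _ := by rw [e]; group

/-- If `x` normalises the finite subgroup `V` and centralises none of its other elements, then the coset
`V x` consists of conjugates of `x` under `V`. -/
theorem exists_absorb [Finite G] {V : Subgroup G} {x : G} (hn : ∀ v ∈ V, x * v * x⁻¹ ∈ V)
    (hc : ∀ v ∈ V, v * x = x * v → v = 1) {v : G} (hv : v ∈ V) : ∃ w ∈ V, w * x * w⁻¹ = v * x := by
  let f : V → V := fun w => ⟨w * (x * w⁻¹ * x⁻¹), mul_mem w.2 (hn _ (inv_mem w.2))⟩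
  have hf : Function.Injective f := by
    intro a b e
    have e' : (a : G) * (x * (a : G)⁻¹ * x⁻¹) = (b : G) * (x * (b : G)⁻¹ * x⁻¹) := congrArg Subtype.val e
    have h1 : ((b : G)⁻¹ * a) * x = x * ((b : G)⁻¹ * a) := by
      calc (b : G)⁻¹ * a * x = (b : G)⁻¹ * ((a : G) * (x * (a : G)⁻¹ * x⁻¹)) * x * a := by group
        _ = (b : G)⁻¹ * ((b : G) * (x * (b : G)⁻¹ * x⁻¹)) * x * a := by rw [e']
        _ = _ := by group
    exact Subtype.ext (inv_mul_eq_one.1 (hc _ (mul_mem (inv_mem b.2) a.2) h1)).symm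
  obtain ⟨w, hw⟩ := Finite.injective_iff_surjective.1 hf ⟨v, hv⟩
  refine ⟨w, w.2, ?_⟩
  calc (w : G) * x * (w : G)⁻¹ = (w : G) * (x * (w : G)⁻¹ * x⁻¹) * x := by group
    _ = v * x := by rw [show (w : G) * (x * (w : G)⁻¹ * x⁻¹) = v from congrArg Subtype.val hw]

/-- The unipotent groups, the torus and the rank one nodes. -/
structure Frame (G : Type*) [Group G] (ι : Type*) where
  U : Subgroup G
  V : Subgroup G
  H : Subgroup G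
  A : ι → Subgroup G
  B : ι → Subgroup G
  P : ι → Subgroup G
  M : ι → Subgroup G
  T : ι → Subgroup G
  n : ι → G
  comm : ∀ a ∈ H, ∀ b ∈ H, a * b = b * a
  A_le : ∀ i, A i ≤ U
  P_le : ∀ i, P i ≤ U
  B_le : ∀ i, B i ≤ V
  M_le : ∀ i, M i ≤ V
  T_le : ∀ i, T i ≤ H
  splitU : ∀ i, ∀ u ∈ U, ∃ a ∈ A i, ∃ p ∈ P i, u = a * p
  splitV : ∀ i, ∀ v ∈ V, ∃ p ∈ M i, ∃ b ∈ B i, v = p * b
  normA : ∀ i, ∀ h ∈ H, ∀ a ∈ A i, h * a * h⁻¹ ∈ A i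
  normB : ∀ i, ∀ h ∈ H, ∀ b ∈ B i, h * b * h⁻¹ ∈ B i
  stabP : ∀ i, ∀ x : G, x ∈ A i ∨ x ∈ B i ∨ x ∈ H → ∀ p ∈ P i, x * p * x⁻¹ ∈ P i
  stabM : ∀ i, ∀ x : G, x ∈ A i ∨ x ∈ B i ∨ x ∈ H → ∀ p ∈ M i, x * p * x⁻¹ ∈ M i
  inv : ∀ i, ∀ t ∈ T i, n i * t * (n i)⁻¹ = t⁻¹
  sqT : ∀ i, ∀ t ∈ T i, ∃ r ∈ T i, r * r = t
  n_sq : ∀ i, n i * n i ∈ H
  n_normH : ∀ i, ∀ h ∈ H, n i * h * (n i)⁻¹ ∈ H
  n_conj : ∀ i, ∀ a ∈ A i, n i * a * (n i)⁻¹ ∈ B i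
  n_conj' : ∀ i, ∀ b ∈ B i, n i * b * (n i)⁻¹ ∈ A i
  n_eq : ∀ i, ∃ a ∈ A i, ∃ b ∈ B i, ∃ a' ∈ A i, n i = a * b * a'
  bruhatB : ∀ i, ∀ b ∈ B i, b ≠ 1 → ∃ a₁ ∈ A i, ∃ h ∈ H, ∃ a₂ ∈ A i, b = a₁ * h * n i * a₂
  gen : Subgroup.closure {x | ∃ i, x ∈ A i ∨ x ∈ B i} = ⊤

namespace Frame

variable {ι : Type*} (Φ : Frame G ι)

theorem normH_U {h : G} (hh : h ∈ Φ.H) {u : G} (hu : u ∈ Φ.U) (i : ι) : h * u * h⁻¹ ∈ Φ.U := by
  obtain ⟨a, ha, p, hp, rfl⟩ := Φ.splitU i u hu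
  rw [show h * (a * p) * h⁻¹ = h * a * h⁻¹ * (h * p * h⁻¹) by group]
  exact mul_mem (Φ.A_le i (Φ.normA i h hh a ha)) (Φ.P_le i (Φ.stabP i h (Or.inr (Or.inr hh)) p hp))

theorem conjA_U {i : ι} {a u : G} (ha : a ∈ Φ.A i) (hu : u ∈ Φ.U) : a * u * a⁻¹ ∈ Φ.U :=
  mul_mem (mul_mem (Φ.A_le i ha) hu) (inv_mem (Φ.A_le i ha))

theorem bruhatA (i : ι) {a : G} (ha : a ∈ Φ.A i) (h1 : a ≠ 1) :
    ∃ b₁ ∈ Φ.B i, ∃ h ∈ Φ.H, ∃ b₂ ∈ Φ.B i, a = b₁ * h * Φ.n i * b₂ := by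
  set n := Φ.n i with hn
  obtain ⟨a₁, h₁, h, hh, a₂, h₂, e⟩ := Φ.bruhatB i _ (Φ.n_conj i a ha) (by simpa [conj_eq_one_iff] using h1)
  have hinv : ∀ c ∈ Φ.A i, n⁻¹ * c * n ∈ Φ.B i := fun c hc => by
    have h0 := Φ.normB i _ (inv_mem (Φ.n_sq i)) _ (Φ.n_conj i c hc)
    rw [← hn] at h0
    simpa [mul_assoc] using h0
  have hH : n⁻¹ * h * n ∈ Φ.H := by
    have h0 := mul_mem (mul_mem (inv_mem (Φ.n_sq i)) (Φ.n_normH i h hh)) (Φ.n_sq i)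
    rw [← hn] at h0
    simpa [mul_assoc] using h0
  refine ⟨_, hinv a₁ h₁, _, hH, _, hinv a₂ h₂, ?_⟩
  calc a = n⁻¹ * (n * a * n⁻¹) * n := by group
    _ = n⁻¹ * (a₁ * h * n * a₂) * n := by rw [e]
    _ = _ := by group

/-! ### The big cell -/

/-- An element of `A H ∪ A H n A`. -/
def Cell (i : ι) (x : G) : Prop :=
  ∃ a ∈ Φ.A i, ∃ h ∈ Φ.H, x = a * h ∨ ∃ a' ∈ Φ.A i, x = a * h * Φ.n i * a'

theorem cell_A_mul {i : ι} {a x : G} (ha : a ∈ Φ.A i) (hx : Φ.Cell i x) : Φ.Cell i (a * x) := by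
  obtain ⟨a₁, h₁, h, hh, rfl | ⟨a', ha', rfl⟩⟩ := hx
  · exact ⟨a * a₁, mul_mem ha h₁, h, hh, Or.inl (by group)⟩
  · exact ⟨a * a₁, mul_mem ha h₁, h, hh, Or.inr ⟨a', ha', by group⟩⟩

theorem cell_H_mul {i : ι} {k x : G} (hk : k ∈ Φ.H) (hx : Φ.Cell i x) : Φ.Cell i (k * x) := by
  obtain ⟨a₁, h₁, h, hh, rfl | ⟨a', ha', rfl⟩⟩ := hx
  · exact ⟨k * a₁ * k⁻¹, Φ.normA i k hk a₁ h₁, k * h, mul_mem hk hh, Or.inl (by group)⟩
  · exact ⟨k * a₁ * k⁻¹, Φ.normA i k hk a₁ h₁, k * h, mul_mem hk hh, Or.inr ⟨a', ha', by group⟩⟩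

theorem cell_mul_A {i : ι} {a x : G} (ha : a ∈ Φ.A i) (hx : Φ.Cell i x) : Φ.Cell i (x * a) := by
  obtain ⟨a₁, h₁, h, hh, rfl | ⟨a', ha', rfl⟩⟩ := hx
  · exact ⟨a₁ * (h * a * h⁻¹), mul_mem h₁ (Φ.normA i h hh a ha), h, hh, Or.inl (by group)⟩
  · exact ⟨a₁, h₁, h, hh, Or.inr ⟨a' * a, mul_mem ha' ha, by group⟩⟩

theorem cell_nan {i : ι} {a : G} (ha : a ∈ Φ.A i) : Φ.Cell i (Φ.n i * a * Φ.n i) := by
  by_cases h1 : a = 1
  · subst h1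
    exact ⟨1, one_mem _, _, Φ.n_sq i, Or.inl (by simp)⟩
  obtain ⟨a₁, h₁, h, hh, a₂, h₂, e⟩ := Φ.bruhatB i _ (Φ.n_conj i a ha) (by simpa [conj_eq_one_iff] using h1)
  set k := Φ.n i * Φ.n i with hk
  have hkH : k ∈ Φ.H := Φ.n_sq i
  have h3 : Φ.n i * a * Φ.n i = a₁ * (h * k) * Φ.n i * (k⁻¹ * a₂ * k) := by
    calc Φ.n i * a * Φ.n i = Φ.n i * a * (Φ.n i)⁻¹ * k := by rw [hk]; group
      _ = a₁ * h * Φ.n i * a₂ * k := by rw [e]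
      _ = _ := by rw [hk]; group
  have h4 := Φ.normA i _ (inv_mem hkH) a₂ h₂
  rw [inv_inv] at h4
  exact ⟨a₁, h₁, h * k, mul_mem hh hkH, Or.inr ⟨_, h4, h3⟩⟩

theorem cell_B_mul {i : ι} {b x : G} (hb : b ∈ Φ.B i) (hx : Φ.Cell i x) : Φ.Cell i (b * x) := by
  by_cases h1 : b = 1
  · subst h1; simpa using hx
  obtain ⟨c₁, hc₁, k, hk, c₂, hc₂, rfl⟩ := Φ.bruhatB i b hb h1
  obtain ⟨a₁, h₁, h, hh, rfl | ⟨a', ha', rfl⟩⟩ := hx
  · refine ⟨c₁, hc₁, k * (Φ.n i * h * (Φ.n i)⁻¹), mul_mem hk (Φ.n_normH i h hh),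
      Or.inr ⟨h⁻¹ * (c₂ * a₁) * h, ?_, by group⟩⟩
    simpa using Φ.normA i _ (inv_mem hh) _ (mul_mem hc₂ h₁)
  · have hmid : Φ.Cell i (Φ.n i * (h⁻¹ * (c₂ * a₁) * h) * Φ.n i) :=
      Φ.cell_nan (by simpa using Φ.normA i _ (inv_mem hh) _ (mul_mem hc₂ h₁))
    rw [show c₁ * k * Φ.n i * c₂ * (a₁ * h * Φ.n i * a') = c₁ * ((k * (Φ.n i * h * (Φ.n i)⁻¹)) *
      (Φ.n i * (h⁻¹ * (c₂ * a₁) * h) * Φ.n i * a')) by group]
    exact Φ.cell_A_mul hc₁ (Φ.cell_H_mul (mul_mem hk (Φ.n_normH i h hh)) (Φ.cell_mul_A ha' hmid))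

theorem cell_decomp {i : ι} {x : G} (hx : Φ.Cell i x) :
    ∃ a ∈ Φ.A i, ∃ b ∈ Φ.B i, ∃ h ∈ Φ.H, ∃ a' ∈ Φ.A i, x = a * b * h * a' := by
  obtain ⟨a₁, h₁, h, hh, rfl | ⟨a', ha', rfl⟩⟩ := hx
  · exact ⟨a₁, h₁, 1, one_mem _, h, hh, 1, one_mem _, by group⟩
  · obtain ⟨c, hc, b, hb, c', hc', e⟩ := Φ.n_eq i
    refine ⟨a₁ * (h * c * h⁻¹), mul_mem h₁ (Φ.normA i h hh c hc), h * b * h⁻¹, Φ.normB i h hh b hb, h, hh,
      c' * a', mul_mem hc' ha', ?_⟩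
    rw [e]; group

/-- An element of `U V H U`. -/
def Big (x : G) : Prop := ∃ u ∈ Φ.U, ∃ v ∈ Φ.V, ∃ h ∈ Φ.H, ∃ u' ∈ Φ.U, x = u * v * h * u'

theorem big_B_mul {i : ι} {b x : G} (hb : b ∈ Φ.B i) (hx : Φ.Big x) : Φ.Big (b * x) := by
  obtain ⟨u, hu, v, hv, h, hh, u', hu', rfl⟩ := hx
  obtain ⟨a, ha, p, hp, rfl⟩ := Φ.splitU i u hu
  obtain ⟨m, hm, b₁, hb₁, rfl⟩ := Φ.splitV i v hv
  -- move `m` behind `b₁`, and `p` in front of `a`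
  set m' := b₁⁻¹ * m * b₁ with hm'
  have hm'M : m' ∈ Φ.M i := by simpa using Φ.stabM i b₁⁻¹ (Or.inr (Or.inl (inv_mem hb₁))) m hm
  set p' := a * p * a⁻¹ with hp'
  have hp'P : p' ∈ Φ.P i := Φ.stabP i a (Or.inl ha) p hp
  have hc : Φ.Cell i (b * (a * b₁)) := by
    refine Φ.cell_B_mul hb (Φ.cell_A_mul ha ?_)
    simpa using Φ.cell_B_mul hb₁ (x := 1) ⟨1, one_mem _, 1, one_mem _, Or.inl (by simp)⟩
  obtain ⟨a₁, h₁, b₂, hb₂, k, hk, a₂, h₂, e⟩ := Φ.cell_decomp hc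
  have hm'' : k * (a₂ * m' * a₂⁻¹) * k⁻¹ ∈ Φ.M i :=
    Φ.stabM i k (Or.inr (Or.inr hk)) _ (Φ.stabM i a₂ (Or.inl h₂) m' hm'M)
  refine ⟨b * p' * b⁻¹ * a₁, mul_mem (Φ.P_le i (Φ.stabP i b (Or.inr (Or.inl hb)) p' hp'P)) (Φ.A_le i h₁),
    b₂ * (k * (a₂ * m' * a₂⁻¹) * k⁻¹), mul_mem (Φ.B_le i hb₂) (Φ.M_le i hm''), k * h, mul_mem hk hh,
    h⁻¹ * a₂ * h * u', mul_mem (Φ.A_le i ?_) hu', ?_⟩
  · simpa using Φ.normA i _ (inv_mem hh) a₂ h₂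
  · calc b * (a * p * (m * b₁) * h * u') = b * p' * b⁻¹ * (b * (a * b₁)) * m' * h * u' := by
          rw [hp', hm']; group
      _ = b * p' * b⁻¹ * (a₁ * b₂ * k * a₂) * m' * h * u' := by rw [e]
      _ = _ := by group

theorem big_all (g : G) : Φ.Big g := by
  suffices ∀ x, Φ.Big x → Φ.Big (g * x) from by
    simpa using this 1 ⟨1, one_mem _, 1, one_mem _, 1, one_mem _, 1, one_mem _, by simp⟩
  have hg : g ∈ Subgroup.closure {x | ∃ i, x ∈ Φ.A i ∨ x ∈ Φ.B i} := Φ.gen ▸ Subgroup.mem_top g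
  induction hg using Subgroup.closure_induction'' with
  | mem x hx =>
    intro y hy
    obtain ⟨i, ha | hb⟩ := hx
    · obtain ⟨u, hu, rest⟩ := hy
      obtain ⟨v, hv, h, hh, u', hu', rfl⟩ := rest
      exact ⟨x * u, mul_mem (Φ.A_le i ha) hu, v, hv, h, hh, u', hu', by group⟩
    · exact Φ.big_B_mul hb hy
  | inv_mem x hx =>
    intro y hy
    obtain ⟨i, ha | hb⟩ := hx
    · obtain ⟨u, hu, rest⟩ := hy
      obtain ⟨v, hv, h, hh, u', hu', rfl⟩ := rest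
      exact ⟨x⁻¹ * u, mul_mem (inv_mem (Φ.A_le i ha)) hu, v, hv, h, hh, u', hu', by group⟩
    · exact Φ.big_B_mul (inv_mem hb) hy
  | one => intro y hy; simpa using hy
  | mul x y _ _ hx hy => intro z hz; rw [mul_assoc]; exact hx _ (hy _ hz)

/-! ### Moves -/

/-- A Gauss form up to conjugacy. -/
def Rep (g v h u : G) : Prop := v ∈ Φ.V ∧ h ∈ Φ.H ∧ u ∈ Φ.U ∧ Cj g (v * h * u)

theorem exists_rep (g : G) : ∃ v h u, Φ.Rep g v h u := by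
  obtain ⟨u, hu, v, hv, h, hh, u', hu', rfl⟩ := Φ.big_all g
  exact ⟨v, h, u' * u, hv, hh, mul_mem hu' hu, u⁻¹, by group⟩

/-- The form does not see the node. -/
def Inactive (i : ι) (v h u : G) : Prop :=
  v ∈ Φ.M i ∧ u ∈ Φ.P i ∧ ∀ c, c ∈ Φ.A i ∨ c ∈ Φ.B i → c * h = h * c

/-- Multiplication of the torus part by a square, negative component not trivial. -/
theorem move_neg {g h u : G} {i : ι} {m b : G} (hm : m ∈ Φ.M i) (hb : b ∈ Φ.B i) (h1 : b ≠ 1)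
    (hr : Φ.Rep g (m * b) h u) {t : G} (ht : t ∈ Φ.T i) : ∃ v' u', Φ.Rep g v' (h * (t * t)) u' := by
  obtain ⟨-, hh, hu, hg⟩ := hr
  obtain ⟨a₁, h₁, k, hk, a₂, h₂, e⟩ := Φ.bruhatB i b hb h1
  have htH : t ∈ Φ.H := Φ.T_le i ht
  set c := t * a₁ * t⁻¹ * a₁⁻¹ with hc
  have hcA : c ∈ Φ.A i := mul_mem (Φ.normA i t htH a₁ h₁) (inv_mem h₁)
  set a' := t⁻¹ * a₂⁻¹ * t * a₂ with ha'
  have ha'A : a' ∈ Φ.A i := mul_mem (by simpa using Φ.normA i _ (inv_mem htH) _ (inv_mem h₂)) h₂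
  have hcb : c * b = t * b * t⁻¹ * (t * t) * a' := by
    have hkt : k * Φ.n i * t⁻¹ = t * (k * Φ.n i) := by
      have h0 : Φ.n i * t⁻¹ * (Φ.n i)⁻¹ = t := by
        simpa using Φ.inv i t⁻¹ (inv_mem ht)
      calc k * Φ.n i * t⁻¹ = k * (Φ.n i * t⁻¹ * (Φ.n i)⁻¹) * Φ.n i := by group
        _ = k * t * Φ.n i := by rw [h0]
        _ = t * k * Φ.n i := by rw [Φ.comm k hk t htH]
        _ = _ := by group
    rw [ha', e, hc]
    calc t * a₁ * t⁻¹ * a₁⁻¹ * (a₁ * k * Φ.n i * a₂) = t * a₁ * t⁻¹ * (k * Φ.n i) * a₂ := by group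
      _ = t * a₁ * t⁻¹ * (t * (k * Φ.n i)) * t * a₂ := by rw [← hkt]; group
      _ = t * (a₁ * k * Φ.n i) * t * a₂ := by group
      _ = _ := by group
  refine ⟨c * m * c⁻¹ * (t * b * t⁻¹), h⁻¹ * a' * h * (u * c⁻¹), ?_, mul_mem hh (mul_mem htH htH), ?_, ?_⟩
  · exact mul_mem (Φ.M_le i (Φ.stabM i c (Or.inl hcA) m hm)) (Φ.B_le i (Φ.normB i t htH b hb))
  · exact mul_mem (Φ.A_le i (by simpa using Φ.normA i _ (inv_mem hh) a' ha'A))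
      (mul_mem hu (inv_mem (Φ.A_le i hcA)))
  · have h0 := hg.conj c
    rw [show c * (m * b * h * u) * c⁻¹ = c * m * c⁻¹ * (c * b) * h * u * c⁻¹ by group, hcb] at h0
    rw [show h * (t * t) = (t * t) * h from Φ.comm h hh _ (mul_mem htH htH)]
    convert h0 using 1
    group

/-- Multiplication of the torus part by a square, positive component not trivial. -/
theorem move_pos {g v h : G} {i : ι} {a p : G} (ha : a ∈ Φ.A i) (h1 : a ≠ 1) (hp : p ∈ Φ.P i)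
    (hr : Φ.Rep g v h (a * p)) {t : G} (ht : t ∈ Φ.T i) : ∃ v' u', Φ.Rep g v' (h * (t * t)) u' := by
  obtain ⟨hv, hh, -, hg⟩ := hr
  obtain ⟨b₁, hb₁, k, hk, b₂, hb₂, e⟩ := Φ.bruhatA i ha h1
  have htH : t ∈ Φ.H := Φ.T_le i ht
  set r := t⁻¹ with hrdef
  have hrT : r ∈ Φ.T i := inv_mem ht
  have hrH : r ∈ Φ.H := inv_mem htH
  set c := (b₂⁻¹ * (r * b₂ * r⁻¹))⁻¹ with hc
  have hcB : c ∈ Φ.B i := inv_mem (mul_mem (inv_mem hb₂) (Φ.normB i r hrH b₂ hb₂))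
  set β := r⁻¹ * (r * b₁ * r⁻¹ * b₁⁻¹) * r with hβ
  have hβB : β ∈ Φ.B i := by
    have := Φ.normB i _ (inv_mem hrH) _ (mul_mem (Φ.normB i r hrH b₁ hb₁) (inv_mem hb₁))
    simpa [hβ] using this
  have hac : a * c⁻¹ = β * (t * t) * (r * a * r⁻¹) := by
    have hkr : k * Φ.n i * r = r⁻¹ * (k * Φ.n i) := by
      calc k * Φ.n i * r = k * (Φ.n i * r * (Φ.n i)⁻¹) * Φ.n i := by group
        _ = k * r⁻¹ * Φ.n i := by rw [Φ.inv i r hrT]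
        _ = r⁻¹ * k * Φ.n i := by rw [Φ.comm k hk r⁻¹ (inv_mem hrH)]
        _ = _ := by group
    rw [hc, inv_inv]
    calc a * (b₂⁻¹ * (r * b₂ * r⁻¹)) = b₁ * (k * Φ.n i * r) * b₂ * r⁻¹ := by rw [e]; group
      _ = b₁ * (r⁻¹ * (k * Φ.n i)) * b₂ * r⁻¹ := by rw [hkr]
      _ = β * (r⁻¹ * r⁻¹) * (r * (b₁ * k * Φ.n i * b₂) * r⁻¹) := by rw [hβ]; group
      _ = _ := by rw [← e, hrdef, inv_inv]
  refine ⟨c * v * (h * β * h⁻¹), r * a * r⁻¹ * (c * p * c⁻¹), ?_, mul_mem hh (mul_mem htH htH), ?_, ?_⟩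
  · exact mul_mem (mul_mem (Φ.B_le i hcB) hv) (Φ.B_le i (Φ.normB i h hh β hβB))
  · exact mul_mem (Φ.A_le i (Φ.normA i r hrH a ha)) (Φ.P_le i (Φ.stabP i c (Or.inr (Or.inl hcB)) p hp))
  · have h0 := hg.conj c
    rw [show c * (v * h * (a * p)) * c⁻¹ = c * v * h * (a * c⁻¹) * (c * p * c⁻¹) by group, hac] at h0
    convert h0 using 1
    group

theorem move {g v h u : G} {i : ι} (hr : Φ.Rep g v h u) (hact : ¬ Φ.Inactive i v h u) {t : G}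
    (ht : t ∈ Φ.T i) : ∃ v' u', Φ.Rep g v' (h * t) u' := by
  obtain ⟨s, hs, rfl⟩ := Φ.sqT i t ht
  obtain ⟨hv, hh, hu, hg⟩ := hr
  obtain ⟨m, hm, b, hb, rfl⟩ := Φ.splitV i v hv
  by_cases hb1 : b = 1
  swap
  · exact Φ.move_neg hm hb hb1 ⟨hv, hh, hu, hg⟩ hs
  subst hb1
  rw [mul_one] at hv hg hact
  obtain ⟨a, ha, p, hp, rfl⟩ := Φ.splitU i u hu
  by_cases ha1 : a = 1
  swap
  · exact Φ.move_pos ha ha1 hp ⟨hv, hh, hu, hg⟩ hs
  subst ha1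
  rw [one_mul] at hu hg hact
  simp only [Inactive, hm, hp, true_and, not_forall] at hact
  obtain ⟨c, hc, hne⟩ := hact
  rcases hc with hc | hc
  · set a' := h⁻¹ * c * h * c⁻¹ with ha'
    have ha'A : a' ∈ Φ.A i := mul_mem (by simpa using Φ.normA i _ (inv_mem hh) c hc) (inv_mem hc)
    have ha'1 : a' ≠ 1 := fun e => hne (by
      rw [ha', mul_inv_eq_one] at e
      conv_rhs => rw [← e]
      group)
    have hrep : Φ.Rep g (c * m * c⁻¹) h (a' * (c * p * c⁻¹)) := by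
      refine ⟨Φ.M_le i (Φ.stabM i c (Or.inl hc) m hm), hh,
        mul_mem (Φ.A_le i ha'A) (Φ.P_le i (Φ.stabP i c (Or.inl hc) p hp)), ?_⟩
      convert hg.conj c using 1
      rw [ha']; group
    exact Φ.move_pos ha'A ha'1 (Φ.stabP i c (Or.inl hc) p hp) hrep hs
  · set b' := c * (h * c⁻¹ * h⁻¹) with hb'
    have hb'B : b' ∈ Φ.B i := mul_mem hc (Φ.normB i h hh _ (inv_mem hc))
    have hb'1 : b' ≠ 1 := fun e => hne (by
      calc c * h = c * (h * c⁻¹ * h⁻¹) * h * c := by group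
        _ = h * c := by rw [← hb', e, one_mul])
    have hrep : Φ.Rep g (c * m * c⁻¹ * b') h (c * p * c⁻¹) := by
      refine ⟨mul_mem (Φ.M_le i (Φ.stabM i c (Or.inr (Or.inl hc)) m hm)) (Φ.B_le i hb'B), hh,
        Φ.P_le i (Φ.stabP i c (Or.inr (Or.inl hc)) p hp), ?_⟩
      convert hg.conj c using 1
      rw [hb']; group
    exact Φ.move_neg (Φ.stabM i c (Or.inr (Or.inl hc)) m hm) hb'B hb'1 hrep hs

theorem eq_one_of_normal_subset [IsSimpleGroup G] {K : Subgroup G} (hK : K ≠ ⊤) {w : G}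
    (hw : ∀ x : G, x * w * x⁻¹ ∈ K) : w = 1 := by
  rcases (Subgroup.normalClosure_normal (s := ({w} : Set G))).eq_bot_or_eq_top with h | h
  · exact Subgroup.mem_bot.1 (h ▸ Subgroup.subset_normalClosure (Set.mem_singleton w))
  · refine absurd (eq_top_iff.2 (h ▸ ?_)) hK
    refine (Subgroup.closure_le _).2 fun y hy => ?_
    obtain ⟨z, hz, hzy⟩ := Group.mem_conjugatesOfSet_iff.1 hy
    rw [Set.mem_singleton_iff] at hz
    subst hz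
    obtain ⟨x, rfl⟩ := isConj_iff.1 hzy
    exact hw x

/-- In a simple group every nontrivial element has a form which sees some node. -/
theorem exists_active [IsSimpleGroup G] (hcen : Subgroup.center G = ⊥) (hU : Φ.U ≠ ⊤) (hV : Φ.V ≠ ⊤) {g : G}
    (hg : g ≠ 1) : ∃ i v h u, Φ.Rep g v h u ∧ ¬ Φ.Inactive i v h u := by
  by_contra hno
  simp only [not_exists, not_and, not_not] at hno
  obtain ⟨v, h, u, hr⟩ := Φ.exists_rep g
  have hh : h = 1 := by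
    have : h ∈ Subgroup.center G := by
      rw [Subgroup.mem_center_iff]
      intro x
      have hx : x ∈ Subgroup.closure {x | ∃ i, x ∈ Φ.A i ∨ x ∈ Φ.B i} := Φ.gen ▸ Subgroup.mem_top x
      suffices Subgroup.closure {x | ∃ i, x ∈ Φ.A i ∨ x ∈ Φ.B i} ≤ Subgroup.centralizer {h} from
        ((Subgroup.mem_centralizer_iff.1 (this hx)) h rfl).symm
      refine (Subgroup.closure_le _).2 ?_
      rintro y ⟨i, hy⟩
      rw [SetLike.mem_coe, Subgroup.mem_centralizer_iff]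
      intro z hz
      rw [Set.mem_singleton_iff.1 hz]
      exact ((hno i v h u hr).2.2 y hy).symm
    rwa [hcen, Subgroup.mem_bot] at this
  subst hh
  have stable : ∀ x : G, ∀ v u, Φ.Rep g v 1 u → x * v * x⁻¹ ∈ Φ.V ∧ x * u * x⁻¹ ∈ Φ.U := by
    intro x
    have hx : x ∈ Subgroup.closure {x | ∃ i, x ∈ Φ.A i ∨ x ∈ Φ.B i} := Φ.gen ▸ Subgroup.mem_top x
    induction hx using Subgroup.closure_induction'' with
    | mem y hy =>
      intro v u hr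
      obtain ⟨i, hi⟩ := hy
      obtain ⟨hv, hu, -⟩ := hno i v 1 u hr
      have hi' : y ∈ Φ.A i ∨ y ∈ Φ.B i ∨ y ∈ Φ.H := hi.imp_right Or.inl
      exact ⟨Φ.M_le i (Φ.stabM i y hi' v hv), Φ.P_le i (Φ.stabP i y hi' u hu)⟩
    | inv_mem y hy =>
      intro v u hr
      obtain ⟨i, hi⟩ := hy
      obtain ⟨hv, hu, -⟩ := hno i v 1 u hr
      have hi' : y⁻¹ ∈ Φ.A i ∨ y⁻¹ ∈ Φ.B i ∨ y⁻¹ ∈ Φ.H := by
        rcases hi with hi | hi
        · exact Or.inl (inv_mem hi)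
        · exact Or.inr (Or.inl (inv_mem hi))
      exact ⟨Φ.M_le i (Φ.stabM i _ hi' v hv), Φ.P_le i (Φ.stabP i _ hi' u hu)⟩
    | one => intro v u hr; simpa using ⟨hr.1, hr.2.2.1⟩
    | mul y z _ _ hy hz =>
      intro v u hr
      obtain ⟨h1, h2⟩ := hz v u hr
      have hr' : Φ.Rep g (z * v * z⁻¹) 1 (z * u * z⁻¹) := by
        refine ⟨h1, one_mem _, h2, ?_⟩
        convert hr.2.2.2.conj z using 1
        group
      obtain ⟨h3, h4⟩ := hy _ _ hr'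
      constructor
      · convert h3 using 1; group
      · convert h4 using 1; group
  have hu1 : u = 1 := eq_one_of_normal_subset hU fun x => (stable x v u hr).2
  have hv1 : v = 1 := eq_one_of_normal_subset hV fun x => (stable x v u hr).1
  obtain ⟨-, -, -, c, e⟩ := hr
  subst hu1 hv1
  apply hg
  simpa using e.symm

/-- No nontrivial element of a node torus centralises the positive group of a node. -/
def Sep : Prop := ∀ i j : ι, ∀ t ∈ Φ.T i, t ≠ 1 → ∃ a ∈ Φ.A j, a * t ≠ t * a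

/-- `h` centralises the positive group of the node `j`. -/
def Cent (j : ι) (h : G) : Prop := ∀ a ∈ Φ.A j, a * h = h * a

theorem not_inactive {j : ι} {h : G} (hc : ¬ Φ.Cent j h) (v u : G) : ¬ Φ.Inactive j v h u :=
  fun hi => hc fun a ha => hi.2.2 a (Or.inl ha)

theorem eq_of_cent {i j : ι} (hsep : Φ.Sep) {h s t : G} (hs : s ∈ Φ.T i) (ht : t ∈ Φ.T i)
    (h1 : Φ.Cent j (h * s)) (h2 : Φ.Cent j (h * t)) : s = t := by
  by_contra hne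
  obtain ⟨a, ha, e⟩ := hsep i j _ (mul_mem (inv_mem hs) ht) (fun e => hne (inv_mul_eq_one.1 e))
  apply e
  have c1 : Commute a (h * s) := h1 a ha
  have c2 : Commute a (h * t) := h2 a ha
  have := c1.inv_right.mul_right c2
  rwa [show (h * s)⁻¹ * (h * t) = s⁻¹ * t by group] at this

/-- Among three distinct torus factors one avoids two bad ones. -/
theorem exists_avoid {i a b : ι} (hsep : Φ.Sep) {h k : G}
    (h3 : ∃ t₁ ∈ Φ.T i, ∃ t₂ ∈ Φ.T i, t₁ ≠ 1 ∧ t₂ ≠ 1 ∧ t₁ ≠ t₂) :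
    ∃ t ∈ Φ.T i, ¬ Φ.Cent a (h * t) ∧ ¬ Φ.Cent b (k * t) := by
  obtain ⟨t₁, m₁, t₂, m₂, n₁, n₂, n₁₂⟩ := h3
  by_contra hno
  simp only [not_exists, not_and, not_not] at hno
  have q := fun t (ht : t ∈ Φ.T i) => (em (Φ.Cent a (h * t))).imp_right (hno t ht)
  rcases q 1 (one_mem _) with h0 | h0 <;> rcases q t₁ m₁ with ha | ha <;> rcases q t₂ m₂ with hb | hb
  all_goals first
    | exact n₁ (Φ.eq_of_cent hsep m₁ (one_mem _) ha h0)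
    | exact n₂ (Φ.eq_of_cent hsep m₂ (one_mem _) hb h0)
    | exact n₁₂ (Φ.eq_of_cent hsep m₁ m₂ ha hb)

variable [IsSimpleGroup G] (hcen : Subgroup.center G = ⊥) (hU : Φ.U ≠ ⊤) (hV : Φ.V ≠ ⊤) (hsep : Φ.Sep)
  (hT : ∀ i, ∃ t₁ ∈ Φ.T i, ∃ t₂ ∈ Φ.T i, t₁ ≠ 1 ∧ t₂ ≠ 1 ∧ t₁ ≠ t₂)
include hcen hU hV hsep hT

/-- Every nontrivial element has a form which sees a given node. -/
theorem exists_active_at (j : ι) {g : G} (hg : g ≠ 1) :
    ∃ v h u, Φ.Rep g v h u ∧ ¬ Φ.Inactive j v h u := by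
  obtain ⟨i, v, h, u, hr, ha⟩ := Φ.exists_active hcen hU hV hg
  by_cases hij : i = j
  · subst hij; exact ⟨v, h, u, hr, ha⟩
  obtain ⟨t, ht, hc, -⟩ := Φ.exists_avoid (a := j) (b := j) (h := h) (k := h) hsep (hT i)
  obtain ⟨v', u', hr'⟩ := Φ.move hr ha ht
  exact ⟨v', _, u', hr', Φ.not_inactive hc _ _⟩

/-- The factor of the node `i` of the torus part can be prescribed. -/
theorem exists_rep_coset {i j : ι} (hH : ∀ h ∈ Φ.H, ∃ x ∈ Φ.T i, ∃ y ∈ Φ.T j, h = x * y) {τ : G}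
    (hτ : τ ∈ Φ.T i) {g : G} (hg : g ≠ 1) : ∃ v u, ∃ y ∈ Φ.T j, Φ.Rep g v (τ * y) u := by
  obtain ⟨v, h, u, hr, ha⟩ := Φ.exists_active_at hcen hU hV hsep hT i hg
  obtain ⟨x, hx, y, hy, rfl⟩ := hH h hr.2.1
  obtain ⟨v', u', hr'⟩ := Φ.move hr ha (mul_mem (inv_mem hx) hτ)
  refine ⟨v', u', y, hy, ?_⟩
  rwa [show x * y * (x⁻¹ * τ) = τ * y by
    rw [Φ.comm x (Φ.T_le i hx) y (Φ.T_le j hy), show y * x * (x⁻¹ * τ) = y * τ by group,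
      Φ.comm y (Φ.T_le j hy) τ (Φ.T_le i hτ)]] at hr'

/-- The whole torus part can be prescribed. -/
theorem exists_rep_eq {i j : ι} (hH : ∀ h ∈ Φ.H, ∃ x ∈ Φ.T i, ∃ y ∈ Φ.T j, h = x * y) {τ : G}
    (hτ : τ ∈ Φ.H) {g : G} (hg : g ≠ 1) : ∃ v u, Φ.Rep g v τ u := by
  obtain ⟨v, h, u, hr, ha⟩ := Φ.exists_active_at hcen hU hV hsep hT i hg
  obtain ⟨x, hx, y, hy, rfl⟩ := hH h hr.2.1
  obtain ⟨a, haT, b, hbT, rfl⟩ := hH τ hτ
  have hc : ∀ p ∈ Φ.T i, ∀ q ∈ Φ.T j, p * q = q * p := fun p hp q hq =>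
    Φ.comm p (Φ.T_le i hp) q (Φ.T_le j hq)
  -- make the node `j` visible
  obtain ⟨x', hx', h1, -⟩ := Φ.exists_avoid (i := i) (a := j) (b := j) (h := y) (k := y) hsep (hT i)
  obtain ⟨v1, u1, r1⟩ := Φ.move hr ha (mul_mem (inv_mem hx) hx')
  rw [show x * y * (x⁻¹ * x') = y * x' by rw [hc x hx y hy]; group] at r1
  -- change the factor of `j`
  obtain ⟨y', hy', h2, h3⟩ := Φ.exists_avoid (i := j) (a := i) (b := j) (h := x') (k := a) hsep (hT j)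
  obtain ⟨v2, u2, r2⟩ := Φ.move r1 (Φ.not_inactive h1 _ _) (mul_mem (inv_mem hy) hy')
  rw [show y * x' * (y⁻¹ * y') = x' * y' by
    rw [← hc x' hx' y hy, show x' * y * (y⁻¹ * y') = x' * y' by group]] at r2
  obtain ⟨v3, u3, r3⟩ := Φ.move r2 (Φ.not_inactive h2 _ _) (mul_mem (inv_mem hx') haT)
  rw [show x' * y' * (x'⁻¹ * a) = a * y' by rw [hc x' hx' y' hy', hc a haT y' hy']; group] at r3
  obtain ⟨v4, u4, r4⟩ := Φ.move r3 (Φ.not_inactive h3 _ _) (mul_mem (inv_mem hy') hbT)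
  rw [show a * y' * (y'⁻¹ * b) = a * b by group] at r4
  exact ⟨v4, u4, r4⟩

omit hcen hU hV hsep hT

omit [IsSimpleGroup G] in
/-- A product of two conjugates of an element fixed point free on both unipotent groups. -/
theorem good_of_rep_regular [Finite G] {g v u x : G} (hx : x ∈ Φ.H) (i : ι) (hr : Φ.Rep g v (x * x) u)
    (hVn : ∀ w ∈ Φ.V, x * w * x⁻¹ ∈ Φ.V) (hVc : ∀ w ∈ Φ.V, w * x = x * w → w = 1)
    (hUc : ∀ w ∈ Φ.U, w * x = x * w → w = 1) : Good x g := by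
  obtain ⟨hv, -, hu, hg⟩ := hr
  obtain ⟨a, -, ea⟩ := exists_absorb hVn hVc hv
  obtain ⟨b, -, eb⟩ := exists_absorb (fun w hw => Φ.normH_U hx hw i) hUc (Φ.normH_U hx hu i)
  refine Good.of_cj hg ⟨a, b, ?_⟩
  rw [ea, eb]; group

end Frame

end Cfsg.Agent.Lib.ThompsonF4
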