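import Cfsg.Agent.Lib.ThompsonF4.Roots

/-!
The frame of `²F₄(q)` (helper32).
-/

set_option autoImplicit false

namespace Cfsg.Agent.Lib.ThompsonF4

open Cfsg.Lie Cfsg.Agent.Lib.Chev Cfsg.Agent.Lib.Twisted Cfsg.Agent.Lib.Twisted.Core
open Cfsg.Agent.Lib.Twisted.ReeF

variable {K : Type*} [Field K]

/-- The group. -/
abbrev RG (K : Type*) [Field K] (m : ℕ) : Type _ := ↥(twistedF4 K (2 ^ m))

/-- The fixed part of the group of a list of roots. -/
def sg (K : Type*) [Field K] (m : ℕ) (L : List ℕ) : Subgroup (RG K m) :=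
  (rg K L).subgroupOf (twistedF4 K (2 ^ m))

/-- The torus. -/
def tor (K : Type*) [Field K] (m : ℕ) : Subgroup (RG K m) :=
  (chevF4.diagonalSubgroup K).subgroupOf (twistedF4 K (2 ^ m))

theorem mem_sg {m : ℕ} {L : List ℕ} {g : RG K m} : g ∈ sg K m L ↔ (g : GL chevF4.Idx K) ∈ rg K L := Iff.rfl

theorem mem_tor {m : ℕ} {g : RG K m} : g ∈ tor K m ↔ (g : GL chevF4.Idx K) ∈ chevF4.diagonalSubgroup K :=
  Iff.rfl

theorem ct_diag (e : ℕ) (s t : Kˣ) :
    (ct e s t : GL chevF4.Idx K) ∈ chevF4.diagonalSubgroup K := by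
  rw [rooted_F4.diagonalSubgroup_eq]; exact ⟨_, rfl⟩

theorem sg_norm {m : ℕ} {L' L : List ℕ} (h : rg K L' ≤ Subgroup.normalizer (rg K L : Set (GL chevF4.Idx K)))
    {x p : RG K m} (hx : x ∈ sg K m L') (hp : p ∈ sg K m L) : x * p * x⁻¹ ∈ sg K m L := by
  rw [mem_sg, Subgroup.coe_mul, Subgroup.coe_mul, Subgroup.coe_inv]
  exact (Subgroup.mem_normalizer_iff.1 (h hx) _).1 hp

theorem tor_norm {m : ℕ} {L : List ℕ} (hL : ∀ s ∈ L, s < chevF4.nroots)
    {x p : RG K m} (hx : x ∈ tor K m) (hp : p ∈ sg K m L) : x * p * x⁻¹ ∈ sg K m L := by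
  rw [mem_sg, Subgroup.coe_mul, Subgroup.coe_mul, Subgroup.coe_inv]
  exact (Subgroup.mem_normalizer_iff.1 (diag_le_normalizer hL hx) _).1 hp

theorem stab_lists {m : ℕ} (j : Fin 2) (x : RG K m)
    (hx : x ∈ sg K m (sA j) ∨ x ∈ sg K m (sB j) ∨ x ∈ tor K m) :
    (∀ p ∈ sg K m (sP j), x * p * x⁻¹ ∈ sg K m (sP j)) ∧ ∀ p ∈ sg K m (sM j), x * p * x⁻¹ ∈ sg K m (sM j) := by
  have hA := (le_sup_left.trans (node_le_normalizer (K := K) j))
  have hB := (le_sup_right.trans (node_le_normalizer (K := K) j))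
  rcases hx with h | h | h
  · exact ⟨fun p hp => sg_norm (hA.trans inf_le_left) h hp, fun p hp => sg_norm (hA.trans inf_le_right) h hp⟩
  · exact ⟨fun p hp => sg_norm (hB.trans inf_le_left) h hp, fun p hp => sg_norm (hB.trans inf_le_right) h hp⟩
  · exact ⟨fun p hp => tor_norm (sP_lt j) h hp, fun p hp => tor_norm (sM_lt j) h hp⟩

/-- The node coordinates of a torus element. -/
noncomputable def cj (e : ℕ) : Fin 2 → Kˣ → ↥(chevF4.group K) := ![fun s => ct e s 1, fun t => ct e 1 t]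

theorem cj_mul (e : ℕ) : ∀ (j : Fin 2) (s t : Kˣ), cj e j (s * t) = cj e j s * cj e j t
  | 0, s, t => by simp [cj, ← ct_mul]
  | 1, s, t => by simp [cj, ← ct_mul]

section

variable [CharP K 2] {m : ℕ} {σ : ↥(chevF4.group K) →* ↥(chevF4.group K)} (hσ : IsReeSigma (2 ^ m) σ)
  (he : ∀ x : K, x ^ (2 * (2 ^ m * 2 ^ m)) = x)
include hσ he

theorem cj_mem : ∀ (j : Fin 2) (s : Kˣ),
    (cj (2 ^ m) j s : GL chevF4.Idx K) ∈ twistedF4 K (2 ^ m)
  | 0, s => ct_mem hσ he s 1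
  | 1, t => ct_mem hσ he 1 t

/-- The torus of a node, as a homomorphism. -/
noncomputable def cHom (j : Fin 2) : Kˣ →* RG K m :=
  MonoidHom.mk' (fun s => ⟨_, cj_mem hσ he j s⟩) fun s t => Subtype.ext (by
    show (cj (2 ^ m) j (s * t) : GL chevF4.Idx K) = _
    rw [cj_mul]; rfl)

theorem coe_cHom (j : Fin 2) (s : Kˣ) :
    (cHom hσ he j s : GL chevF4.Idx K) = (cj (2 ^ m) j s : GL chevF4.Idx K) := rfl

theorem cHom_injective : ∀ j : Fin 2, Function.Injective (cHom hσ he j) := by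
  intro j s t e
  have e' := congrArg Subtype.val e
  rw [coe_cHom, coe_cHom] at e'
  fin_cases j
  · exact (quad_inj e').2.2.2
  · exact (quad_inj e').2.2.1

theorem exists_coord {h : RG K m} (hh : h ∈ tor K m) :
    ∃ s t : Kˣ, h = cHom hσ he 0 s * cHom hσ he 1 t := by
  obtain ⟨s, t, e⟩ := fixed_torus hσ h.1 hh (le_fixSub hσ he h.2)
  refine ⟨s, t, Subtype.ext ?_⟩
  rw [e, Subgroup.coe_mul, coe_cHom, coe_cHom]
  show _ = ((ct (2 ^ m) s 1 : ↥(chevF4.group K)) : GL chevF4.Idx K) * (ct (2 ^ m) 1 t : ↥(chevF4.group K))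
  rw [← Subgroup.coe_mul, ← ct_mul, mul_one, one_mul]

/-- The representative of a node in the group. -/
noncomputable def nR : Fin 2 → RG K m := ![⟨_, nP_mem (m := m)⟩, ⟨_, nQ_mem (m := m)⟩]

omit hσ he in
theorem coe_nR : ∀ j : Fin 2, (nR (K := K) (m := m) j : GL chevF4.Idx K) = (nEl (K := K) j : GL chevF4.Idx K)
  | 0 => rfl
  | 1 => rfl

omit hσ he [CharP K 2] in
theorem orbs_off : ∀ (j : Fin 2) (s : Kˣ) (i : ℕ),
    i ∉ (![[0, 3], [1, 2]] : Fin 2 → List ℕ) j → (![quad (s ^ 2 ^ m) ((1 : Kˣ) ^ 2 ^ m) 1 s,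
      quad ((1 : Kˣ) ^ 2 ^ m) (s ^ 2 ^ m) s 1] : Fin 2 → ℕ → Kˣ) j i = 1 := by
  intro j s i hi
  fin_cases j <;>
    · simp only [List.mem_cons, List.not_mem_nil, or_false, not_or, Matrix.cons_val_zero, Matrix.cons_val_one,
        Fin.zero_eta, Fin.mk_one, Matrix.cons_val_fin_one] at hi
      simp [quad, hi.1, hi.2]

theorem nR_inv (j : Fin 2) (s : Kˣ) : nR j * cHom hσ he j s * (nR j)⁻¹ = (cHom hσ he j s)⁻¹ := by
  refine Subtype.ext ?_
  rw [Subgroup.coe_mul, Subgroup.coe_mul, Subgroup.coe_inv, Subgroup.coe_inv, coe_nR, coe_cHom]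
  fin_cases j
  · exact congrArg Subtype.val (n_conj_ct (K := K) isWord_LP (S := [0, 3]) (e := 2 ^ m) (s := s) (t := 1)
      (by decide +kernel) (fun i hi => orbs_off (m := m) 0 s i hi))
  · exact congrArg Subtype.val (n_conj_ct (K := K) isWord_LQ (S := [1, 2]) (e := 2 ^ m) (s := 1) (t := s)
      (by decide +kernel) (fun i hi => orbs_off (m := m) 1 s i hi))

omit hσ he in
theorem conj_nR {j : Fin 2} {L L' : List ℕ} (hL : ∀ s ∈ L, s < chevF4.nroots)
    (h : ∀ r ∈ L, perm F4.cert (orbs j) r ∈ L') {g : RG K m} (hg : g ∈ sg K m L) :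
    nR j * g * (nR j)⁻¹ ∈ sg K m L' := by
  rw [mem_sg, Subgroup.coe_mul, Subgroup.coe_mul, Subgroup.coe_inv, coe_nR]
  exact (cls_nEl j).conj_rootGen (S := {r | r ∈ L}) hL
    (fun r hr => by rw [checked_F4.wperm_val (orbs_word j)]; exact h r hr) hg

omit hσ he in
theorem nR_sq : ∀ j : Fin 2, nR (K := K) (m := m) j * nR j ∈ tor K m := by
  intro j
  rw [mem_tor, Subgroup.coe_mul, coe_nR]
  have := (cls_nEl (K := K) j).mul (cls_nEl j)
  have e : wperm checked_F4 (orbs j) * wperm checked_F4 (orbs j) = 1 := by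
    fin_cases j
    · exact class_sq checked_F4 isWord_LP chk_classP
    · exact class_sq checked_F4 isWord_LQ chk_classQ
  rw [e] at this
  exact this.diag_of_one

omit hσ he in
theorem nR_normH (j : Fin 2) {h : RG K m} (hh : h ∈ tor K m) : nR j * h * (nR j)⁻¹ ∈ tor K m := by
  rw [mem_tor, Subgroup.coe_mul, Subgroup.coe_mul, Subgroup.coe_inv, coe_nR]
  exact (Subgroup.mem_normalizer_iff.1 (rooted_F4.diagonal_normal_monomial (cls_nEl j).mem_monomial) _).1 hh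

omit hσ he [CharP K 2] in
theorem classU_rg (t u : K) : (classU (2 ^ m) t u : GL chevF4.Idx K) ∈ rg K (sA 1) :=
  rg_mono (L := [25, 27, 28, 30]) (fun _ h => h) (classU_mem_set _ t u)

omit hσ he [CharP K 2] in
theorem pairU_rg (t : K) : (pairU (2 ^ m) t : GL chevF4.Idx K) ∈ rg K (sA 0) :=
  rg_mono (L := [24, 33]) (fun _ h => h) (pairU_mem_set _ t)

omit hσ he in
/-- An element of the positive group of a node, for each node. -/
noncomputable def uEl : Fin 2 → RG K m :=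
  ![⟨_, pairU_mem (m := m) (1 : K)⟩, ⟨_, classU_mem (m := m) (1 : K) 1⟩]

omit hσ he [CharP K 2] in
theorem uEl_mem : ∀ j : Fin 2, uEl (K := K) (m := m) j ∈ sg K m (sA j)
  | 0 => pairU_rg 1
  | 1 => classU_rg 1 1

omit hσ he in
theorem nR_eq : ∀ j : Fin 2, ∃ a ∈ sg K m (sA j), ∃ b ∈ sg K m (sB j), ∃ a' ∈ sg K m (sA j),
    nR (K := K) (m := m) j = a * b * a' := by
  intro j
  have hB : ∀ a ∈ sg K m (sA j), nR j * a * (nR j)⁻¹ ∈ sg K m (sB j) := fun a ha =>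
    conj_nR (sA_lt j) (perm_lists j).1 ha
  fin_cases j
  · refine ⟨⟨_, pairU_mem 1⟩, pairU_rg 1, _, hB ⟨_, pairU_mem 1⟩ (pairU_rg 1), ⟨_, pairU_mem 1⟩, pairU_rg 1,
      Subtype.ext ?_⟩
    have e := congrArg Subtype.val (nP_eq (K := K) (e := 2 ^ m))
    rw [pairV_eq_conj] at e
    simpa [nR] using e
  · refine ⟨⟨_, classU_mem 1 0⟩, classU_rg 1 0, _, hB ⟨_, classU_mem 0 1⟩ (classU_rg 0 1), ⟨_, classU_mem 1 1⟩,
      classU_rg 1 1, Subtype.ext ?_⟩
    have e := congrArg Subtype.val (nQ_eq (K := K) (two_pow_ne m))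
    rw [classV_eq_conj] at e
    simpa [nR] using e

variable [Fintype K]

theorem split_pos (j : Fin 2) {u : RG K m} (hu : u ∈ sg K m lPos) :
    ∃ a ∈ sg K m (sA j), ∃ p ∈ sg K m (sP j), u = a * p := by
  obtain ⟨a, p, ⟨ha, haG⟩, ⟨hp, hpG⟩, e⟩ := fixed_split hσ he (sA_lt j) (sP_lt j)
    ((le_sup_left.trans (node_le_normalizer j)).trans inf_le_left) (rho_lists j).1 (rho_lists j).2.2.1
    (pos_inf j) (lPos_cov j) hu u.2
  exact ⟨⟨a, haG⟩, ha, ⟨p, hpG⟩, hp, Subtype.ext e⟩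

theorem split_neg (j : Fin 2) {v : RG K m} (hv : v ∈ sg K m lNeg) :
    ∃ p ∈ sg K m (sM j), ∃ b ∈ sg K m (sB j), v = p * b := by
  obtain ⟨a, p, ⟨ha, haG⟩, ⟨hp, hpG⟩, e⟩ := fixed_split hσ he (sB_lt j) (sM_lt j)
    ((le_sup_right.trans (node_le_normalizer j)).trans inf_le_right) (rho_lists j).2.1 (rho_lists j).2.2.2
    (neg_inf j) (lNeg_cov j) (u := ((v⁻¹ : RG K m) : GL chevF4.Idx K)) (inv_mem hv) (v⁻¹).2
  refine ⟨(⟨p, hpG⟩ : RG K m)⁻¹, inv_mem hp, (⟨a, haG⟩ : RG K m)⁻¹, inv_mem ha, ?_⟩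
  rw [← mul_inv_rev, ← show v⁻¹ = (⟨a, haG⟩ : RG K m) * ⟨p, hpG⟩ from Subtype.ext e, inv_inv]

/-- The positive Borel part of an element. -/
theorem split_borel (j : Fin 2) {β : RG K m} (hβ : (β : GL chevF4.Idx K) ∈ chevF4.borelSubgroup K) :
    ∃ a ∈ sg K m (sA j), ∃ p ∈ sg K m (sP j), ∃ k ∈ tor K m, β = a * p * k := by
  obtain ⟨u, ⟨hu, huf⟩, t, ⟨ht, htf⟩, e⟩ :=
    OrbitSys.borel_fixed_split (T := twist hσ) hβ ((orbitSys hσ he).G_le β.2)
  have hG := (orbitSys hσ he).eq_fixedGroup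
  have huG : u ∈ twistedF4 K (2 ^ m) := by
    show u ∈ (orbitSys hσ he).G
    rw [hG]; exact huf
  have htG : t ∈ twistedF4 K (2 ^ m) := by
    show t ∈ (orbitSys hσ he).G
    rw [hG]; exact htf
  obtain ⟨a, ha, p, hp, e'⟩ := split_pos hσ he j (u := ⟨u, huG⟩) (by rw [mem_sg, ← rg_pos]; exact hu)
  exact ⟨a, ha, p, hp, ⟨t, htG⟩, ht, by rw [← e']; exact Subtype.ext e⟩

theorem bruhat_neg (j : Fin 2) {b : RG K m} (hb : b ∈ sg K m (sB j)) (h1 : b ≠ 1) :
    ∃ a₁ ∈ sg K m (sA j), ∃ h ∈ tor K m, ∃ a₂ ∈ sg K m (sA j), b = a₁ * h * nR j * a₂ := by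
  set S := orbitSys hσ he
  set n : RG K m := nR j
  have hsqT : n * n ∈ tor K m := nR_sq j
  -- `b` is the conjugate of a positive element
  set c₀ : RG K m := n⁻¹ * b * n with hc0
  have hc0A : c₀ ∈ sg K m (sA j) := by
    have h := tor_norm (sA_lt j) (inv_mem hsqT) (conj_nR (K := K) (j := j) (sB_lt j) (perm_lists j).2.1 hb)
    convert h using 1
    show c₀ = (n * n)⁻¹ * (n * b * n⁻¹) * (n * n)⁻¹⁻¹
    rw [hc0]; group
  set s : RG K m := ⟨S.sEl j, S.sEl_mem j⟩ with hs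
  set d : RG K m := n⁻¹ * s with hd
  have hdT : d ∈ tor K m := by
    rw [mem_tor, hd, Subgroup.coe_mul, Subgroup.coe_inv, coe_nR]
    exact (cls_nEl j).diff (S.sEl_cls j)
  set c : RG K m := d⁻¹ * c₀ * d with hc
  have hcA : c ∈ sg K m (sA j) := by simpa [hc] using tor_norm (sA_lt j) (inv_mem hdT) hc0A
  have hcU : (c : GL chevF4.Idx K) ∈ Twist.uGrp chevF4 K (S.wJ j) ⊓ S.G := by
    refine ⟨?_, c.2⟩
    fin_cases j
    · show _ ∈ Twist.uGrp chevF4 K (wperm checked_F4 LP); rw [uGrp_P]; exact hcA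
    · show _ ∈ Twist.uGrp chevF4 K (wperm checked_F4 LQ); rw [uGrp_Q]; exact hcA
  obtain ⟨β, hβ, β', hβ', hcase⟩ := S.sEl_conj_mem j hcU
  set β₁ : RG K m := ⟨β, hβ.2⟩
  set β₂ : RG K m := ⟨β', hβ'.2⟩
  have hbs : b * (s * s) = s * c * s := by
    rw [hc, hd, hc0]; group
  have hssT : s * s ∈ tor K m := S.sEl_sq j
  rcases hcase with e | e
  · -- the lower element would lie in the Borel group
    exfalso
    have e' : s * c * s = β₁ * β₂ := Subtype.ext e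
    have hB : (b : GL chevF4.Idx K) ∈ chevF4.borelSubgroup K := by
      have e2 : b = β₁ * β₂ * (s * s)⁻¹ := by rw [← e', ← hbs]; group
      rw [e2, Subgroup.coe_mul, Subgroup.coe_mul, Subgroup.coe_inv]
      exact mul_mem (mul_mem hβ.1 hβ'.1) (inv_mem (Subgroup.mem_sup_right hssT))
    have hN : (b : GL chevF4.Idx K) ∈ chevF4.negUnipotent K := by
      rw [rg_neg]; exact rg_mono (sub_neg j).1 hb
    exact h1 (Subtype.ext (Subgroup.mem_bot.1 (rooted_F4.borel_inf_negUnipotent.le ⟨hB, hN⟩)))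
  · have e' : s * c * s = β₁ * s * β₂ := Subtype.ext e
    set β₃ : RG K m := d * β₂ * (s * s)⁻¹ with hβ3
    have hB3 : (β₃ : GL chevF4.Idx K) ∈ chevF4.borelSubgroup K := by
      rw [hβ3, Subgroup.coe_mul, Subgroup.coe_mul, Subgroup.coe_inv]
      exact mul_mem (mul_mem (Subgroup.mem_sup_right hdT) hβ'.1) (inv_mem (Subgroup.mem_sup_right hssT))
    have eb : b = β₁ * n * β₃ := by
      calc b = b * (s * s) * (s * s)⁻¹ := by group
        _ = β₁ * s * β₂ * (s * s)⁻¹ := by rw [hbs, e']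
        _ = _ := by rw [hβ3, hd]; group
    obtain ⟨a, ha, p, hp, k, hk, e1⟩ := split_borel hσ he j (β := β₁) hβ.1
    obtain ⟨a', ha', p', hp', k', hk', e3⟩ := split_borel hσ he j hB3
    -- collect the radical on the right
    set k₂ := n * k' * n⁻¹ with hk2
    set a₂ := k'⁻¹ * a' * k' with ha2
    have hk2T : k₂ ∈ tor K m := nR_normH j hk'
    have ha2A : a₂ ∈ sg K m (sA j) := by simpa [ha2] using tor_norm (sA_lt j) (inv_mem hk') ha'
    set X := a * (k * k₂) * n * a₂ with hX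
    set r := X⁻¹ * b with hr
    have hst := fun x hx => (stab_lists (K := K) (m := m) j x hx).1
    have hnP : ∀ q ∈ sg K m (sP j), n⁻¹ * q * n ∈ sg K m (sP j) := by
      obtain ⟨c1, h1', c2, h2', c3, h3', en⟩ := nR_eq (K := K) (m := m) j
      intro q hq
      have := hst c3⁻¹ (Or.inl (inv_mem h3')) _ (hst c2⁻¹ (Or.inr (Or.inl (inv_mem h2'))) _
        (hst c1⁻¹ (Or.inl (inv_mem h1')) q hq))
      convert this using 1
      show (nR j)⁻¹ * q * nR j = _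
      rw [en]; group
    have hrP : r ∈ sg K m (sP j) := by
      have h4 : r = a₂⁻¹ * (k'⁻¹ * (n⁻¹ * (k⁻¹ * p * k) * n) * k') * a₂ * (k'⁻¹ * p' * k') := by
        rw [hr, hX, eb, e1, e3, hk2, ha2]; group
      rw [h4]
      refine mul_mem ?_ ?_
      · have h5 := hst a₂⁻¹ (Or.inl (inv_mem ha2A)) _ (hst k'⁻¹ (Or.inr (Or.inr (inv_mem hk'))) _
          (hnP _ (hst k⁻¹ (Or.inr (Or.inr (inv_mem hk))) p hp)))
        simpa using h5
      · simpa using hst k'⁻¹ (Or.inr (Or.inr (inv_mem hk'))) p' hp'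
    have hlevi : (r : GL chevF4.Idx K) ∈ chevF4.diagonalSubgroup K ⊔ (rg K (sA j) ⊔ rg K (sB j)) := by
      obtain ⟨c1, h1', c2, h2', c3, h3', en⟩ := nR_eq (K := K) (m := m) j
      have hA : ∀ x : RG K m, x ∈ sg K m (sA j) →
          (x : GL chevF4.Idx K) ∈ chevF4.diagonalSubgroup K ⊔ (rg K (sA j) ⊔ rg K (sB j)) :=
        fun x hx => Subgroup.mem_sup_right (Subgroup.mem_sup_left hx)
      have hBm : ∀ x : RG K m, x ∈ sg K m (sB j) →
          (x : GL chevF4.Idx K) ∈ chevF4.diagonalSubgroup K ⊔ (rg K (sA j) ⊔ rg K (sB j)) :=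
        fun x hx => Subgroup.mem_sup_right (Subgroup.mem_sup_right hx)
      have hTm : ∀ x : RG K m, x ∈ tor K m →
          (x : GL chevF4.Idx K) ∈ chevF4.diagonalSubgroup K ⊔ (rg K (sA j) ⊔ rg K (sB j)) :=
        fun x hx => Subgroup.mem_sup_left hx
      have hn' : ((n : RG K m) : GL chevF4.Idx K) ∈ chevF4.diagonalSubgroup K ⊔ (rg K (sA j) ⊔ rg K (sB j)) := by
        show ((nR j : RG K m) : GL chevF4.Idx K) ∈ _
        rw [en, Subgroup.coe_mul, Subgroup.coe_mul]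
        exact mul_mem (mul_mem (hA _ h1') (hBm _ h2')) (hA _ h3')
      rw [hr, hX, Subgroup.coe_mul, Subgroup.coe_inv, Subgroup.coe_mul, Subgroup.coe_mul, Subgroup.coe_mul]
      exact mul_mem (inv_mem (mul_mem (mul_mem (mul_mem (hA _ ha) (hTm _ (mul_mem hk hk2T))) hn') (hA _ ha2A)))
        (hBm _ hb)
    have hr1 : r = 1 :=
      Subtype.ext (Subgroup.mem_bot.1 ((levi_inf_P j).le (Subgroup.mem_inf.2 ⟨hlevi, hrP⟩)))
    exact ⟨a, ha, k * k₂, mul_mem hk hk2T, a₂, ha2A, (inv_mul_eq_one.1 hr1).symm⟩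

theorem gen_top :
    Subgroup.closure {x : RG K m | ∃ j, x ∈ sg K m (sA j) ∨ x ∈ sg K m (sB j)} = ⊤ := by
  set C := Subgroup.closure {x : RG K m | ∃ j, x ∈ sg K m (sA j) ∨ x ∈ sg K m (sB j)}
  have key : twistedF4 K (2 ^ m) ≤ C.map (twistedF4 K (2 ^ m)).subtype := by
    refine (Subgroup.closure_le _).2 ?_
    have hA : ∀ j (x : RG K m), x ∈ sg K m (sA j) → (x : GL chevF4.Idx K) ∈ C.map (twistedF4 K (2 ^ m)).subtype :=
      fun j x hx => ⟨x, Subgroup.subset_closure ⟨j, Or.inl hx⟩, rfl⟩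
    have hB : ∀ j (x : RG K m), x ∈ sg K m (sA j) →
        ((nR j : RG K m) : GL chevF4.Idx K) * x * ((nR j : RG K m) : GL chevF4.Idx K)⁻¹ ∈ C.map (twistedF4 K (2 ^ m)).subtype :=
      fun j x hx => ⟨nR j * x * (nR j)⁻¹, Subgroup.subset_closure ⟨j, Or.inr (conj_nR (sA_lt j) (perm_lists j).1 hx)⟩,
        by simp⟩
    rintro g ⟨w, (⟨t, rfl | rfl⟩ | ⟨t, u, rfl | rfl⟩), e⟩ <;> rw [exists_wordG checked_F4 e]
    · exact hA 0 ⟨_, pairU_mem t⟩ (pairU_rg t)
    · show (pairV (2 ^ m) t : GL chevF4.Idx K) ∈ _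
      rw [pairV_eq_conj]
      simpa [nR] using hB 0 ⟨_, pairU_mem t⟩ (pairU_rg t)
    · exact hA 1 ⟨_, classU_mem t u⟩ (classU_rg t u)
    · show (classV (2 ^ m) t u : GL chevF4.Idx K) ∈ _
      rw [classV_eq_conj]
      simpa [nR] using hB 1 ⟨_, classU_mem t u⟩ (classU_rg t u)
  rw [eq_top_iff]
  rintro x -
  obtain ⟨y, hy, e⟩ := key x.2
  rwa [← Subtype.ext e]

/-- The frame of `²F₄(q)`. -/
noncomputable def frame : Frame (RG K m) (Fin 2) where
  U := sg K m lPos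
  V := sg K m lNeg
  H := tor K m
  A j := sg K m (sA j)
  B j := sg K m (sB j)
  P j := sg K m (sP j)
  M j := sg K m (sM j)
  T j := (cHom hσ he j).range
  n := nR
  comm a ha b hb := by
    obtain ⟨s, t, rfl⟩ := exists_coord hσ he ha
    obtain ⟨s', t', rfl⟩ := exists_coord hσ he hb
    refine Subtype.ext ?_
    simp only [Subgroup.coe_mul, coe_cHom]
    simp only [cj, Matrix.cons_val_zero, Matrix.cons_val_one, Matrix.cons_val_fin_one, ← Subgroup.coe_mul, ← ct_mul]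
    simp only [mul_one, mul_comm]
  A_le j := fun _ h => rg_mono (sub_pos j).1 h
  P_le j := fun _ h => rg_mono (sub_pos j).2 h
  B_le j := fun _ h => rg_mono (sub_neg j).1 h
  M_le j := fun _ h => rg_mono (sub_neg j).2 h
  T_le j := by
    rintro x ⟨s, rfl⟩
    rw [mem_tor, coe_cHom]
    fin_cases j <;> exact ct_diag _ _ _
  splitU j _ hu := split_pos hσ he j hu
  splitV j _ hv := split_neg hσ he j hv
  normA j _ hh _ ha := tor_norm (sA_lt j) hh ha
  normB j _ hh _ hb := tor_norm (sB_lt j) hh hb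
  stabP j x hx := (stab_lists j x hx).1
  stabM j x hx := (stab_lists j x hx).2
  inv j := by
    rintro x ⟨s, rfl⟩
    exact nR_inv hσ he j s
  sqT j := by
    rintro x ⟨s, rfl⟩
    obtain ⟨r, rfl⟩ := exists_sqrt he s
    exact ⟨_, ⟨r, rfl⟩, (map_mul _ _ _).symm⟩
  n_sq := nR_sq
  n_normH j _ hh := nR_normH j hh
  n_conj j _ ha := conj_nR (sA_lt j) (perm_lists j).1 ha
  n_conj' j _ hb := conj_nR (sB_lt j) (perm_lists j).2.1 hb
  n_eq := nR_eq
  bruhatB j _ hb h1 := bruhat_neg hσ he j hb h1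
  gen := gen_top hσ he

end

end Cfsg.Agent.Lib.ThompsonF4
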