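import Cfsg.Agent.Lib.ThompsonF4.Instance

/-!
Gauss forms with prescribed torus part in `²F₄(q)`, and the covering by a regular torus class for `q ≥ 32`
(helper32).
-/

set_option autoImplicit false

namespace Cfsg.Agent.Lib.ThompsonF4

open Cfsg.Lie Cfsg.Agent.Lib.Chev Cfsg.Agent.Lib.Twisted Cfsg.Agent.Lib.Twisted.Core
open Cfsg.Agent.Lib.Twisted.ReeF

variable {K : Type*} [Field K]

/-- A word of the longest element. -/
def LTop : List ℕ := LP ++ LQ ++ LP ++ LQ ++ LP ++ LQ ++ LP ++ LQ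

theorem isWord_LTop : IsWord chevF4 LTop := (by decide : ∀ i ∈ LTop, i < chevF4.rank)

theorem perm_LTop : ((List.range 48).all fun r => perm F4.cert LTop r == ng chevF4 r) = true ∧
    (([0, 1, 2, 3] : List ℕ).all fun i => (List.range chevF4.nroots).all fun r =>
      decide (chevF4.cartan i (perm F4.cert LTop.reverse r) = - chevF4.cartan i r)) = true := by
  decide +kernel

/-- The characters of the torus coordinates. -/
theorem chi_quad (e : ℕ) (s t : Kˣ) (r : ℕ) : torusFun chevF4 (quad (s ^ e) (t ^ e) t s) r =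
    s ^ ((e : ℤ) * chevF4.cartan 0 r + chevF4.cartan 3 r) *
      t ^ ((e : ℤ) * chevF4.cartan 1 r + chevF4.cartan 2 r) := by
  obtain ⟨q0, q1, q2, q3⟩ := quad_vals (s ^ e) (t ^ e) t s
  rw [torusFun, show chevF4.rank = 4 from rfl, Finset.prod_range_succ, Finset.prod_range_succ,
    Finset.prod_range_succ, Finset.prod_range_one, q0, q1, q2, q3, zpow_add, zpow_add, zpow_mul, zpow_mul,
    zpow_natCast, zpow_natCast]
  simp only [mul_comm, mul_left_comm, mul_assoc]

/-- A torus element commutes with no element of a group of positive roots on which its characters are not trivial. -/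
theorem cent_pos {L : List ℕ} (hs : L.Pairwise (· < ·)) (hp : ∀ r ∈ L, r ∈ lPos)
    (hcl : (L.all fun r => L.all fun s => (cTerms F4.cert r s).all fun c => decide (c.1 ∈ L)) = true)
    (c : ℕ → Kˣ) (hc : ∀ r ∈ L, torusFun chevF4 c r ≠ 1) {g : GL chevF4.Idx K} (hg : g ∈ rg K L)
    (hcomm : torusHom chevF4 K c * g = g * torusHom chevF4 K c) : g = 1 := by
  have hlt : ∀ r ∈ L, r ∈ posSet chevF4 := fun r hr => by
    have := hp r hr
    simp only [lPos, List.mem_range'_1] at this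
    exact this
  obtain ⟨t, -, ht⟩ := checked_F4.exists_prod L hs hlt (closed_of_list hcl) g hg
  set w : List (ℕ × K) := L.map fun r => (r, t r)
  have hw : ∀ p ∈ w, p.1 < chevF4.nroots := by
    intro p hp'
    obtain ⟨r, hr, rfl⟩ := List.mem_map.1 hp'
    exact (hlt r hr).2
  have eg : g = (wordG checked_F4 w : GL chevF4.Idx K) := exists_wordG _ ht
  have e1 : wordG checked_F4 (w.map fun p => (p.1, (torusFun chevF4 c p.1 : K) * p.2)) = wordG checked_F4 w := by
    rw [← conj_word c w hw]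
    refine Subtype.ext ?_
    rw [Subgroup.coe_mul, Subgroup.coe_mul, Subgroup.coe_inv, coe_torusG, ← eg, hcomm, mul_inv_cancel_right]
  have e2 := congrArg (fun g : ↥(chevF4.group K) =>
    ((g : GL chevF4.Idx K) : Matrix chevF4.Idx chevF4.Idx K)) e1
  simp only [coe_wordG, w, List.map_map, Function.comp_def] at e2
  have key := rooted_F4.prod_injective L hs hlt _ _ e2
  have hz : ∀ r ∈ L, t r = 0 := by
    intro r hr
    by_contra h0
    exact hc r hr (Units.ext (by simpa using (mul_eq_right₀ h0).1 (key r hr)))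
  rw [eg]
  have : ∀ L' : List ℕ, (∀ r ∈ L', r < chevF4.nroots ∧ t r = 0) →
      wordG checked_F4 (L'.map fun r => (r, t r)) = 1 := by
    intro L'
    induction L' with
    | nil => intro _; rfl
    | cons r L' ih =>
      intro h
      rw [List.map_cons, wordG_cons, ih fun s hs' => h s (List.mem_cons_of_mem _ hs'),
        (h r List.mem_cons_self).2, xG_zero checked_F4 (h r List.mem_cons_self).1, one_mul]
  rw [this L fun r hr => ⟨(hlt r hr).2, hz r hr⟩, Subgroup.coe_one]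

section

variable [CharP K 2] {m : ℕ}

omit [CharP K 2] in
/-- The version for negative roots. -/
theorem cent_neg {L L' : List ℕ} (hs : L.Pairwise (· < ·)) (hp : ∀ r ∈ L, r ∈ lPos)
    (hcl : (L.all fun r => L.all fun s => (cTerms F4.cert r s).all fun c => decide (c.1 ∈ L)) = true)
    (hL' : ∀ r ∈ L', r < chevF4.nroots) (hw : ∀ r ∈ L', ng chevF4 r ∈ L) (s t : Kˣ)
    (hc : ∀ r ∈ L, torusFun chevF4 (quad (s ^ 2 ^ m) (t ^ 2 ^ m) t s) r ≠ 1) {g : GL chevF4.Idx K}
    (hg : g ∈ rg K L')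
    (hcomm : (ct (2 ^ m) s t : GL chevF4.Idx K) * g = g * (ct (2 ^ m) s t : GL chevF4.Idx K)) : g = 1 := by
  set n : ↥(chevF4.group K) := wordG checked_F4 (castW K (nInts chevF4 LTop))
  have hn : Cls (F := K) rooted_F4 (wperm checked_F4 LTop) (n : GL chevF4.Idx K) :=
    ⟨LTop, isWord_LTop, rfl, 1, one_mem _, by rw [mul_one]; exact coe_nInts checked_F4 isWord_LTop⟩
  have h1 : (n : GL chevF4.Idx K) * g * (n : GL chevF4.Idx K)⁻¹ ∈ rg K L := by
    refine hn.conj_rootGen (S := {r | r ∈ L'}) hL' (fun r hr => ?_) hg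
    rw [checked_F4.wperm_val isWord_LTop]
    have := List.all_eq_true.1 perm_LTop.1 r.val (List.mem_range.2 r.2)
    rw [beq_iff_eq] at this
    rw [this]
    exact hw r hr
  have h2 := congrArg Subtype.val (n_conj_ct (K := K) isWord_LTop (S := [0, 1, 2, 3]) (e := 2 ^ m) (s := s) (t := t)
    perm_LTop.2 (fun i hi => quad_off _ _ _ _ (by simp at hi; omega)))
  simp only [Subgroup.coe_mul, Subgroup.coe_inv] at h2
  set h := (ct (2 ^ m) s t : GL chevF4.Idx K)
  set N := (n : GL chevF4.Idx K)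
  have h3 : h * (N * g * N⁻¹) = N * g * N⁻¹ * h := by
    have e : h = N * h⁻¹ * N⁻¹ := by
      calc h = (h⁻¹)⁻¹ := (inv_inv h).symm
        _ = (N * h * N⁻¹)⁻¹ := by rw [h2]
        _ = _ := by group
    have hgi : Commute h⁻¹ g := (show Commute h g from hcomm).inv_left
    calc h * (N * g * N⁻¹) = N * h⁻¹ * N⁻¹ * (N * g * N⁻¹) := by rw [← e]
      _ = N * (h⁻¹ * g) * N⁻¹ := by group
      _ = N * (g * h⁻¹) * N⁻¹ := by rw [hgi.eq]
      _ = N * g * N⁻¹ * (N * h⁻¹ * N⁻¹) := by group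
      _ = _ := by rw [← e]
  have h4 := cent_pos hs hp hcl _ hc h1 (by rw [← coe_torusG rooted_F4]; exact h3)
  exact conj_eq_one_iff.1 h4

end

theorem lPos_closed : (lPos.all fun r => lPos.all fun s => (cTerms F4.cert r s).all fun c => decide (c.1 ∈ lPos))
    = true := by decide +kernel

theorem lPos_sorted : lPos.Pairwise (· < ·) := by decide

theorem pos_exp_bound : ∀ r ∈ lPos, (2 * chevF4.cartan 0 r + chevF4.cartan 1 r).natAbs ≤ 4 ∧
    (2 * chevF4.cartan 3 r + chevF4.cartan 2 r).natAbs ≤ 3 ∧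
    ((2 * chevF4.cartan 0 r + chevF4.cartan 1 r) ≠ 0 ∨ (2 * chevF4.cartan 3 r + chevF4.cartan 2 r) ≠ 0) := by
  decide +kernel

theorem ng_lNeg : ∀ r ∈ lNeg, ng chevF4 r ∈ lPos := by decide +kernel

theorem units_card [Fintype K] {m : ℕ} (hK : Fintype.card K = 2 ^ (2 * m + 1)) :
    Nat.card Kˣ + 1 = 2 * (2 ^ m * 2 ^ m) := by
  rw [Nat.card_units, Nat.card_eq_fintype_card, hK, Nat.sub_add_cancel (Nat.one_le_pow _ _ (by norm_num))]
  ring

theorem zpow_eq_one [Fintype K] {g : Kˣ} (hg : orderOf g = Nat.card Kˣ) {n : ℤ} (h : g ^ n = 1)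
    (hn : |n| < (Nat.card Kˣ : ℤ)) : n = 0 := by
  rw [← orderOf_dvd_iff_zpow_eq_one, hg] at h
  exact Int.eq_zero_of_abs_lt_dvd h hn

section

variable [CharP K 2] {m : ℕ} {σ : ↥(chevF4.group K) →* ↥(chevF4.group K)} (hσ : IsReeSigma (2 ^ m) σ)
  (he : ∀ x : K, x ^ (2 * (2 ^ m * 2 ^ m)) = x) [Fintype K] (hm : 1 ≤ m)
  (hK : Fintype.card K = 2 ^ (2 * m + 1))

omit [Fintype K] in
theorem uEl_ne : ∀ j : Fin 2, uEl (K := K) (m := m) j ≠ 1 := by
  intro j e
  have e' := congrArg Subtype.val e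
  fin_cases j
  · have h0 : pairU (2 ^ m) (1 : K) = 1 := Subtype.ext e'
    rw [pairU_eq, one_pow] at h0
    exact one_ne_zero (srtP_injective (p' := (0 : K)) (q' := 0) (h0.trans (by
      simp [srtP, wordG, xG_zero checked_F4 (show 24 < chevF4.nroots by decide),
        xG_zero checked_F4 (show 33 < chevF4.nroots by decide)]))).1
  · have h0 : classU (2 ^ m) (1 : K) 1 = 1 := Subtype.ext e'
    rw [classU_eq] at h0
    exact one_ne_zero (srtQ_injective (p' := (0 : K)) (q' := 0) (r' := 0) (s' := 0) (h0.trans (by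
      simp [srtQ, wordG, xG_zero checked_F4 (show 25 < chevF4.nroots by decide),
        xG_zero checked_F4 (show 27 < chevF4.nroots by decide), xG_zero checked_F4 (show 28 < chevF4.nroots by decide),
        xG_zero checked_F4 (show 30 < chevF4.nroots by decide)]))).1

include hσ he hm hK

omit [CharP K 2] hσ he in
theorem three_le_units : 7 ≤ Nat.card Kˣ := by
  have h := units_card (K := K) hK
  have : 4 ≤ 2 ^ m * 2 ^ m := by
    have : 2 ≤ 2 ^ m := (Nat.pow_le_pow_right (by norm_num) hm).trans' (by norm_num)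
    nlinarith
  omega

omit hm in
theorem frame_sep : (frame hσ he).Sep := by
  intro i j t ht h1
  obtain ⟨s, rfl⟩ := ht
  refine ⟨uEl j, uEl_mem j, fun e => h1 ?_⟩
  have e' : (cHom hσ he i s : GL chevF4.Idx K) * (uEl (K := K) (m := m) j : GL chevF4.Idx K) *
      (cHom hσ he i s : GL chevF4.Idx K)⁻¹ = (uEl (K := K) (m := m) j : GL chevF4.Idx K) := by
    rw [mul_inv_eq_iff_eq_mul]; exact (congrArg Subtype.val e).symm
  rw [coe_cHom] at e'
  have hodd : ∀ u : Kˣ, u ^ 2 = 1 → u = 1 := fun u hu => by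
    have h2 : orderOf u ∣ 2 := orderOf_dvd_of_pow_eq_one hu
    have h3 : orderOf u ∣ Nat.card Kˣ := orderOf_dvd_natCard u
    have h4 : orderOf u ∣ 2 * (2 ^ m * 2 ^ m) := h2.trans (dvd_mul_right _ _)
    rw [← units_card (K := K) hK] at h4
    exact orderOf_eq_one_iff.1 (Nat.dvd_one.1 ((Nat.dvd_add_right h3).1 h4))
  suffices s = 1 by rw [this, map_one]
  have hval : ∀ (a : Kˣ) (b : K), b ≠ 0 → (a : K) * b = b → a = 1 :=
    fun a b hb h => Units.ext (by simpa using (mul_eq_right₀ hb).1 h)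
  fin_cases j
  · have h2 : ∀ a b : Kˣ, ct (2 ^ m) a b * pairU (2 ^ m) (1 : K) * (ct (2 ^ m) a b)⁻¹ = pairU (2 ^ m) (1 : K) →
        a ^ ((2 : ℤ)) * b ^ (-1 : ℤ) = 1 := by
      intro a b h
      rw [pairU_eq, srtP, ct, conj_word _ _
        (by simp only [List.forall_mem_cons]; exact ⟨by decide, by decide, by simp⟩)] at h
      have := (srtP_injective (p := (torusFun chevF4 (quad (a ^ 2 ^ m) (b ^ 2 ^ m) b a) 24 : K) * 1) h).1
      have := hval _ _ one_ne_zero this
      rw [chi_quad] at this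
      have c0 : chevF4.cartan 0 24 = 0 ∧ chevF4.cartan 3 24 = 2 ∧ chevF4.cartan 1 24 = 0 ∧
          chevF4.cartan 2 24 = -1 := by decide +kernel
      obtain ⟨c1, c2, c3, c4⟩ := c0
      simpa [c1, c2, c3, c4] using this
    fin_cases i
    · have := h2 s 1 (Subtype.ext (by simpa [cj, uEl] using e'))
      exact hodd s (by simpa using this)
    · have := h2 1 s (Subtype.ext (by simpa [cj, uEl] using e'))
      simpa using this
  · have h2 : ∀ a b : Kˣ, ct (2 ^ m) a b * classU (2 ^ m) (1 : K) 1 * (ct (2 ^ m) a b)⁻¹ = classU (2 ^ m) (1 : K) 1 →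
        a ^ (-1 : ℤ) * b ^ ((2 : ℤ) - 2 * ((2 ^ m : ℕ) : ℤ)) = 1 ∧
          a ^ (-((2 ^ m : ℕ) : ℤ) - 1) * b = 1 := by
      intro a b h
      rw [classU_eq, srtQ, ct, conj_word _ _
        (by simp only [List.forall_mem_cons]; exact ⟨by decide, by decide, by decide, by decide, by simp⟩)] at h
      obtain ⟨q1, -, q3, -⟩ := srtQ_injective
        (p := (torusFun chevF4 (quad (a ^ 2 ^ m) (b ^ 2 ^ m) b a) 25 : K) * 1) h
      have q1 := hval _ _ one_ne_zero q1
      have q3 := hval _ _ one_ne_zero q3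
      rw [chi_quad] at q1 q3
      have c0 : chevF4.cartan 0 25 = 0 ∧ chevF4.cartan 3 25 = -1 ∧ chevF4.cartan 1 25 = -2 ∧
          chevF4.cartan 2 25 = 2 ∧ chevF4.cartan 0 28 = -1 ∧ chevF4.cartan 3 28 = -1 ∧ chevF4.cartan 1 28 = 0 ∧
          chevF4.cartan 2 28 = 1 := by decide +kernel
      obtain ⟨c1, c2, c3, c4, c5, c6, c7, c8⟩ := c0
      rw [c1, c2, c3, c4] at q1
      rw [c5, c6, c7, c8] at q3
      refine ⟨?_, ?_⟩
      · convert q1 using 3 <;> push_cast <;> ring
      · convert q3 using 2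
        · congr 1; push_cast; ring
        · simp
    fin_cases i
    · have := (h2 s 1 (Subtype.ext (by simpa [cj, uEl] using e'))).1
      simpa using this
    · have := (h2 1 s (Subtype.ext (by simpa [cj, uEl] using e'))).2
      simpa using this

theorem frame_torus (i : Fin 2) : ∃ t₁ ∈ (frame hσ he).T i, ∃ t₂ ∈ (frame hσ he).T i,
    t₁ ≠ 1 ∧ t₂ ≠ 1 ∧ t₁ ≠ t₂ := by
  obtain ⟨g, hg⟩ := IsCyclic.exists_ofOrder_eq_natCard (α := Kˣ)
  have h7 := three_le_units hm hK
  have hp : ∀ k, 0 < k → k < 7 → g ^ k ≠ 1 := fun k h1 h2 =>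
    pow_ne_one_of_lt_orderOf (by omega) (by omega)
  have hinj := cHom_injective hσ he i
  refine ⟨_, ⟨g, rfl⟩, _, ⟨g ^ 2, rfl⟩, ?_, ?_, ?_⟩
  · exact fun e => hp 1 (by norm_num) (by norm_num) (by rw [pow_one]; exact hinj (e.trans (map_one _).symm))
  · exact fun e => hp 2 (by norm_num) (by norm_num) (hinj (e.trans (map_one _).symm))
  · intro e
    have := hinj e
    exact hp 1 (by norm_num) (by norm_num) (by rw [pow_one]; rw [pow_two, eq_comm, mul_eq_left] at this; exact this)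

theorem rg_simple : IsSimpleGroup (RG K m) ∧ Subgroup.center (RG K m) = ⊥ := by
  have : Nontrivial ↥(orbitSys hσ he).G :=
    (⟨⟨_, _, uEl_ne (K := K) (m := m) 0⟩⟩ : Nontrivial (RG K m))
  obtain ⟨hs, hnc⟩ := (orbitSys hσ he).isSimple (hasLead hσ he) (noSplit hσ he) (commutator_eq_top hσ he hm hK)
  have : IsSimpleGroup (RG K m) := hs
  refine ⟨hs, ?_⟩
  rcases (Subgroup.instNormalCenter : (Subgroup.center (RG K m)).Normal).eq_bot_or_eq_top with h | h
  · exact h
  · exact absurd ⟨⟨fun a b => (Subgroup.mem_center_iff.1 (h ▸ Subgroup.mem_top b) a)⟩⟩ hnc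

omit hm hK in
theorem frame_proper : (frame hσ he).U ≠ ⊤ ∧ (frame hσ he).V ≠ ⊤ := by
  have hu := uEl_mem (K := K) (m := m) 0
  have hd : ∀ x : RG K m, x ∈ sg K m lPos → x ∈ sg K m lNeg → x = 1 := by
    intro x h1 h2
    rw [mem_sg, ← rg_pos] at h1
    rw [mem_sg, ← rg_neg] at h2
    exact Subtype.ext (Subgroup.mem_bot.1 (rooted_F4.borel_inf_negUnipotent.le ⟨Subgroup.mem_sup_left h1, h2⟩))
  have hb := conj_nR (sA_lt 0) (perm_lists 0).1 hu
  refine ⟨fun e => uEl_ne (K := K) (m := m) 0 (conj_eq_one_iff.1 (hd (nR 0 * uEl 0 * (nR 0)⁻¹) ?_ ?_)),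
    fun e => uEl_ne (K := K) (m := m) 0 (hd _ (rg_mono (sub_pos 0).1 hu) ?_)⟩
  · show _ ∈ (frame hσ he).U
    rw [e]; exact Subgroup.mem_top _
  · exact rg_mono (sub_neg 0).1 hb
  · show _ ∈ (frame hσ he).V
    rw [e]; exact Subgroup.mem_top _

omit hm hK in
theorem tor_split : ∀ h ∈ (frame hσ he).H, ∃ x ∈ (frame hσ he).T 0, ∃ y ∈ (frame hσ he).T 1, h = x * y := by
  intro h hh
  obtain ⟨s, t, e⟩ := exists_coord hσ he hh
  exact ⟨_, ⟨s, rfl⟩, _, ⟨t, rfl⟩, e⟩

omit hm in
/-- A torus element fixed point free on both unipotent groups, `q ≥ 32`. -/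
theorem exists_regular (hm2 : 2 ≤ m) : ∃ x : RG K m, x ∈ tor K m ∧ Odd (orderOf x) ∧
    (∀ w ∈ sg K m lPos, w * x = x * w → w = 1) ∧ ∀ w ∈ sg K m lNeg, w * x = x * w → w = 1 := by
  obtain ⟨g, hg⟩ := IsCyclic.exists_ofOrder_eq_natCard (α := Kˣ)
  set x : RG K m := cHom hσ he 0 (g ^ 2) * cHom hσ he 1 g
  have hx : (x : GL chevF4.Idx K) = (ct (2 ^ m) (g ^ 2) g : GL chevF4.Idx K) := by
    show ((ct (2 ^ m) (g ^ 2) 1 : ↥(chevF4.group K)) : GL chevF4.Idx K) * (ct (2 ^ m) 1 g : ↥(chevF4.group K)) = _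
    rw [← Subgroup.coe_mul, ← ct_mul, mul_one, one_mul]
  have hχ : ∀ r ∈ lPos, torusFun chevF4 (quad ((g ^ 2) ^ 2 ^ m) (g ^ 2 ^ m) g (g ^ 2)) r ≠ 1 := by
    intro r hr h
    rw [chi_quad, ← zpow_natCast g 2, ← zpow_mul, ← zpow_add] at h
    obtain ⟨hA, hB, hne⟩ := pos_exp_bound r hr
    set E := ((2 ^ m : ℕ) : ℤ) with hE
    have hE4 : (4 : ℤ) ≤ E := by
      rw [hE]; exact_mod_cast (Nat.pow_le_pow_right (by norm_num) hm2).trans' (by norm_num)
    have hN : ((Nat.card Kˣ : ℕ) : ℤ) + 1 = 2 * (E * E) := by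
      rw [hE]; exact_mod_cast units_card (K := K) hK
    have hA' : |2 * chevF4.cartan 0 r + chevF4.cartan 1 r| ≤ 4 := by rw [Int.abs_eq_natAbs]; exact_mod_cast hA
    have hB' : |2 * chevF4.cartan 3 r + chevF4.cartan 2 r| ≤ 3 := by rw [Int.abs_eq_natAbs]; exact_mod_cast hB
    rw [abs_le] at hA' hB'
    have h0 := zpow_eq_one hg h (by rw [abs_lt]; push_cast; constructor <;> nlinarith)
    push_cast at h0
    set A := 2 * chevF4.cartan 0 r + chevF4.cartan 1 r with hA0
    set B := 2 * chevF4.cartan 3 r + chevF4.cartan 2 r with hB0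
    have h1 : E * A + B = 0 := by rw [hA0, hB0]; linear_combination h0
    rcases hne with hne | hne
    · rcases lt_or_gt_of_ne hne with hn | hn <;> nlinarith
    · have hA1 : A = 0 := by
        by_contra h'
        rcases lt_or_gt_of_ne h' with hn | hn <;> nlinarith
      rw [hA1, mul_zero, zero_add] at h1
      exact hne h1
  refine ⟨x, ?_, ?_, fun w hw hc => ?_, fun w hw hc => ?_⟩
  · rw [mem_tor, hx]; exact ct_diag _ _ _
  · have hodd : Odd (Nat.card Kˣ) := by
      have h := units_card (K := K) hK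
      rcases Nat.even_or_odd (Nat.card Kˣ) with he' | he'
      · obtain ⟨k, hk⟩ := he'; omega
      · exact he'
    refine hodd.of_dvd_nat (orderOf_dvd_of_pow_eq_one ?_)
    have hcomm : Commute (cHom hσ he 0 (g ^ 2)) (cHom hσ he 1 g) :=
      (frame hσ he).comm _ ((frame hσ he).T_le 0 ⟨_, rfl⟩) _ ((frame hσ he).T_le 1 ⟨_, rfl⟩)
    rw [hcomm.mul_pow, ← map_pow, ← map_pow, pow_card_eq_one', pow_card_eq_one', map_one, map_one, one_mul]
  · refine Subtype.ext (cent_pos lPos_sorted (fun _ h => h) lPos_closed _ hχ hw ?_)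
    rw [← coe_torusG rooted_F4]
    have : (w : GL chevF4.Idx K) * (x : GL chevF4.Idx K) = (x : GL chevF4.Idx K) * (w : GL chevF4.Idx K) :=
      congrArg Subtype.val hc
    rw [hx] at this
    exact this.symm
  · refine Subtype.ext (cent_neg lPos_sorted (fun _ h => h) lPos_closed
      (fun r hr => (List.mem_range.1 hr).trans (by decide)) ng_lNeg _ _ hχ hw ?_)
    have : (w : GL chevF4.Idx K) * (x : GL chevF4.Idx K) = (x : GL chevF4.Idx K) * (w : GL chevF4.Idx K) :=
      congrArg Subtype.val hc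
    rw [hx] at this
    exact this.symm

/-- For `q ≥ 32` every nontrivial element is a product of two conjugates of a regular torus element. -/
theorem exists_covering_large (hm2 : 2 ≤ m) :
    ∃ x : RG K m, Odd (orderOf x) ∧ ∀ g : RG K m, g ≠ 1 → Good x g := by
  obtain ⟨hs, hcen⟩ := rg_simple hσ he hm hK
  have := hs
  obtain ⟨x, hx, hodd, hU, hV⟩ := exists_regular hσ he hK hm2
  refine ⟨x, hodd, fun g hg => ?_⟩
  obtain ⟨v, u, hr⟩ := (frame hσ he).exists_rep_eq hcen (frame_proper hσ he).1 (frame_proper hσ he).2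
    (frame_sep hσ he hK) (frame_torus hσ he hm hK) (tor_split hσ he) (mul_mem hx hx) hg
  exact (frame hσ he).good_of_rep_regular hx 0 hr
    (fun w hw => tor_norm (fun r hr => (List.mem_range.1 hr).trans (by decide)) hx hw) hV hU

end

end Cfsg.Agent.Lib.ThompsonF4
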