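import Cfsg.Agent.Lib.Twisted.Ree.F4Sys
import Cfsg.Agent.Lib.Chev.Levi
import Cfsg.Agent.Lib.ThompsonF4.Gauss

/-!
The root subgroups of the two nodes of `²F₄(q)` and of their complements (helper32).
-/

set_option autoImplicit false

namespace Cfsg.Agent.Lib.ThompsonF4

open Cfsg.Lie Cfsg.Agent.Lib.Chev Cfsg.Agent.Lib.Twisted Cfsg.Agent.Lib.Twisted.Core
open Cfsg.Agent.Lib.Twisted.ReeF

/-- Positive roots of a node. -/
def sA : Fin 2 → List ℕ := ![[24, 33], [25, 27, 28, 30]]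

/-- Negative roots of a node. -/
def sB : Fin 2 → List ℕ := ![[14, 23], [17, 19, 20, 22]]

/-- The other positive roots. -/
def sP (j : Fin 2) : List ℕ := (List.range' 24 24).filter fun r => !(sA j).contains r

/-- The other negative roots. -/
def sM (j : Fin 2) : List ℕ := (List.range 24).filter fun r => !(sB j).contains r

/-- Positive roots. -/
def lPos : List ℕ := List.range' 24 24

/-- Negative roots. -/
def lNeg : List ℕ := List.range 24

/-- The root `r` normalises the group of the roots in `L`. -/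
def nchk (r : ℕ) (L : List ℕ) : Bool :=
  L.all fun s => s == r || (s != ng chevF4 r && (cTerms F4.cert r s).all fun c => L.contains c.1)

theorem sA_lt : ∀ j, ∀ r ∈ sA j, r < chevF4.nroots := by decide

theorem sB_lt : ∀ j, ∀ r ∈ sB j, r < chevF4.nroots := by decide

theorem sP_lt : ∀ j, ∀ r ∈ sP j, r < chevF4.nroots := by decide

theorem sM_lt : ∀ j, ∀ r ∈ sM j, r < chevF4.nroots := by decide

theorem chk_norm : ∀ j, ((sA j ++ sB j).all fun r => nchk r (sP j) && nchk r (sM j)) = true := by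
  decide +kernel

theorem lPos_cov : ∀ j, ∀ r ∈ lPos, r ∈ sA j ∨ r ∈ sP j := by decide

theorem lNeg_cov : ∀ j, ∀ r ∈ lNeg, r ∈ sB j ∨ r ∈ sM j := by decide

theorem sub_pos : ∀ j, (∀ r ∈ sA j, r ∈ lPos) ∧ ∀ r ∈ sP j, r ∈ lPos := by decide

theorem sub_neg : ∀ j, (∀ r ∈ sB j, r ∈ lNeg) ∧ ∀ r ∈ sM j, r ∈ lNeg := by decide

theorem rho_lists : ∀ j, (∀ r ∈ sA j, f4Iso.root r ∈ sA j) ∧ (∀ r ∈ sB j, f4Iso.root r ∈ sB j) ∧
    (∀ r ∈ sP j, f4Iso.root r ∈ sP j) ∧ ∀ r ∈ sM j, f4Iso.root r ∈ sM j := by decide +kernel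

theorem perm_lists : ∀ j, (∀ r ∈ sA j, perm F4.cert (orbs j) r ∈ sB j) ∧
    (∀ r ∈ sB j, perm F4.cert (orbs j) r ∈ sA j) ∧ ∀ r ∈ sM j, perm F4.cert (orbs j) r ∈ sM j := by
  decide +kernel

theorem supp_lists : ∀ j, (∀ r ∈ sP j, ∃ l < chevF4.rank, l ∉ orbJ j ∧ coef chevF4 F4.cert l r ≠ 0) ∧
    ∀ r ∈ sA j ++ sB j, ∀ l < chevF4.rank, l ∉ orbJ j → coef chevF4 F4.cert l r = 0 := by decide +kernel

theorem orbs_word : ∀ j, IsWord chevF4 (orbs j) :=
  (by decide : ∀ j, ∀ i ∈ orbs j, i < chevF4.rank)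

theorem orbJ_lt : ∀ j, orbJ j ⊆ Finset.range chevF4.rank := (by decide : ∀ j, orbJ j ⊆ Finset.range 4)

/-- The representatives of the nodes. -/
def nEl {K : Type*} [Field K] : Fin 2 → ↥(chevF4.group K) := ![nP, nQ]

variable {K : Type*} [Field K]

/-- The group generated by a list of roots. -/
abbrev rg (K : Type*) [Field K] (L : List ℕ) : Subgroup (GL chevF4.Idx K) := rootGen chevF4 K {r | r ∈ L}

theorem rg_pos : chevF4.posUnipotent K = rg K lPos := by
  rw [checked_F4.posUnipotent_eq]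
  congr 1
  ext r
  show (24 ≤ r ∧ r < 48) ↔ r ∈ lPos
  simp [lPos, List.mem_range'_1]

theorem rg_neg : chevF4.negUnipotent K = rg K lNeg := by
  rw [checked_F4.negUnipotent_eq]
  congr 1
  ext r
  show r < 24 ↔ r ∈ lNeg
  simp [lNeg]

theorem rg_mono {L L' : List ℕ} (h : ∀ r ∈ L, r ∈ L') : rg K L ≤ rg K L' := rootGen_mono h

theorem rg_le_normalizer {r : ℕ} (hr : r < chevF4.nroots) {L : List ℕ} (hL : ∀ s ∈ L, s < chevF4.nroots)
    (h : nchk r L = true) : chevF4.rootSubgroup K r ≤ Subgroup.normalizer (rg K L : Set (GL chevF4.Idx K)) := by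
  simp only [nchk, List.all_eq_true, Bool.or_eq_true, beq_iff_eq, Bool.and_eq_true, bne_iff_ne,
    List.contains_iff_mem] at h
  exact checked_F4.rootSubgroup_le_normalizer hL hr fun s hs hne => (h s hs).resolve_left hne

theorem list_le_normalizer {L' L : List ℕ} (hL' : ∀ s ∈ L', s < chevF4.nroots) (hL : ∀ s ∈ L, s < chevF4.nroots)
    (h : ∀ r ∈ L', nchk r L = true) : rg K L' ≤ Subgroup.normalizer (rg K L : Set (GL chevF4.Idx K)) := by
  refine (Subgroup.closure_le _).2 ?_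
  rintro x ⟨r, t, hr, e⟩
  exact rg_le_normalizer (hL' r hr) hL (h r hr) ((checked_F4.rootSubgroup_mem_iff (hL' r hr)).2
    ⟨t, Units.ext e⟩)

theorem node_le_normalizer (j : Fin 2) : rg K (sA j) ⊔ rg K (sB j) ≤
    Subgroup.normalizer (rg K (sP j) : Set (GL chevF4.Idx K)) ⊓
      Subgroup.normalizer (rg K (sM j) : Set (GL chevF4.Idx K)) := by
  have h : ∀ r ∈ sA j ++ sB j, nchk r (sP j) = true ∧ nchk r (sM j) = true := fun r hr => by
    have := List.all_eq_true.1 (chk_norm j) r hr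
    rwa [Bool.and_eq_true] at this
  refine sup_le (le_inf ?_ ?_) (le_inf ?_ ?_)
  · exact list_le_normalizer (sA_lt j) (sP_lt j) fun r hr => (h r (List.mem_append_left _ hr)).1
  · exact list_le_normalizer (sA_lt j) (sM_lt j) fun r hr => (h r (List.mem_append_left _ hr)).2
  · exact list_le_normalizer (sB_lt j) (sP_lt j) fun r hr => (h r (List.mem_append_right _ hr)).1
  · exact list_le_normalizer (sB_lt j) (sM_lt j) fun r hr => (h r (List.mem_append_right _ hr)).2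

theorem diag_le_normalizer {L : List ℕ} (hL : ∀ s ∈ L, s < chevF4.nroots) :
    chevF4.diagonalSubgroup K ≤ Subgroup.normalizer (rg K L : Set (GL chevF4.Idx K)) :=
  fun _ hx => rooted_F4.diagonal_le_normalizer hL hx

/-- The Levi group of a node meets the other positive roots trivially. -/
theorem levi_inf_P (j : Fin 2) :
    (chevF4.diagonalSubgroup K ⊔ (rg K (sA j) ⊔ rg K (sB j))) ⊓ rg K (sP j) = ⊥ := by
  rw [eq_bot_iff, ← (rooted_F4.levi_decomposition (F := K) (orbJ_lt j)).2]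
  rintro x ⟨h1, h2⟩
  have key : rg K (sA j) ⊔ rg K (sB j) ≤ rootGen chevF4 K (subSet chevF4 F4.cert (orbJ j)) :=
    sup_le (rootGen_mono fun r hr => ⟨sA_lt j r hr, (supp_lists j).2 r (List.mem_append_left _ hr)⟩)
      (rootGen_mono fun r hr => ⟨sB_lt j r hr, (supp_lists j).2 r (List.mem_append_right _ hr)⟩)
  refine ⟨rootGen_mono (fun r hr => ?_) h2, (sup_le_sup le_rfl key :) h1⟩
  obtain ⟨l, hl, hlJ, hne⟩ := (supp_lists j).1 r hr
  have hp : r ∈ lPos := (sub_pos j).2 r hr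
  simp only [lPos, List.mem_range'_1] at hp
  exact ⟨⟨hp.1, sP_lt j r hr⟩, fun hs => hne (hs l hl hlJ)⟩

theorem cls_nEl : ∀ j, Cls rooted_F4 (wperm checked_F4 (orbs j))
    ((nEl (K := K) j : ↥(chevF4.group K)) : GL chevF4.Idx K)
  | 0 => cls_nP
  | 1 => cls_nQ

/-- The two negative groups of a node meet trivially. -/
theorem neg_inf (j : Fin 2) : rg K (sB j) ⊓ rg K (sM j) = ⊥ := by
  rw [eq_bot_iff]
  rintro x ⟨h1, h2⟩
  have hn := cls_nEl (K := K) j
  set n := ((nEl (K := K) j : ↥(chevF4.group K)) : GL chevF4.Idx K)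
  have e1 : n * x * n⁻¹ ∈ rg K (sA j) := hn.conj_rootGen (S := {r | r ∈ sB j}) (sB_lt j)
    (fun r hr => by rw [checked_F4.wperm_val (orbs_word j)]; exact (perm_lists j).2.1 r hr) h1
  have e2 : n * x * n⁻¹ ∈ rg K (sM j) := hn.conj_rootGen (S := {r | r ∈ sM j}) (sM_lt j)
    (fun r hr => by rw [checked_F4.wperm_val (orbs_word j)]; exact (perm_lists j).2.2 r hr) h2
  have e3 : n * x * n⁻¹ ∈ chevF4.borelSubgroup K := by
    refine Subgroup.mem_sup_left ?_
    show n * x * n⁻¹ ∈ chevF4.posUnipotent K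
    rw [rg_pos]
    exact rg_mono (sub_pos j).1 e1
  have e4 : n * x * n⁻¹ ∈ chevF4.negUnipotent K := by
    rw [rg_neg]
    exact rg_mono (sub_neg j).2 e2
  exact conj_eq_one_iff.1 (Subgroup.mem_bot.1 (rooted_F4.borel_inf_negUnipotent.le ⟨e3, e4⟩))

theorem pos_inf (j : Fin 2) : rg K (sA j) ⊓ rg K (sP j) = ⊥ := by
  rw [eq_bot_iff, ← levi_inf_P (K := K) j]
  exact inf_le_inf_right _ (le_sup_left.trans le_sup_right)

section

variable [CharP K 2] {m : ℕ} {σ : ↥(chevF4.group K) →* ↥(chevF4.group K)} (hσ : IsReeSigma (2 ^ m) σ)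
  (he : ∀ x : K, x ^ (2 * (2 ^ m * 2 ^ m)) = x) [Fintype K]
include hσ he

omit he [Fintype K] in
theorem sig_rg {L : List ℕ} (hL : ∀ s ∈ L, s < chevF4.nroots) (hρ : ∀ r ∈ L, f4Iso.root r ∈ L)
    {g : GL chevF4.Idx K} (hg : g ∈ rg K L) : (twist hσ).sig g ∈ rg K L :=
  (twist hσ).sig_rootGen hL (fun r hr => hρ r hr) hg

/-- A fixed element of a product of two groups of roots has fixed factors. -/
theorem fixed_split {LA LP : List ℕ} (hA : ∀ s ∈ LA, s < chevF4.nroots) (hP : ∀ s ∈ LP, s < chevF4.nroots)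
    (hn : rg K LA ≤ Subgroup.normalizer (rg K LP : Set (GL chevF4.Idx K)))
    (rA : ∀ r ∈ LA, f4Iso.root r ∈ LA) (rP : ∀ r ∈ LP, f4Iso.root r ∈ LP) (hi : rg K LA ⊓ rg K LP = ⊥)
    {L : List ℕ} (hL : ∀ r ∈ L, r ∈ LA ∨ r ∈ LP) {u : GL chevF4.Idx K} (hu : u ∈ rg K L)
    (huG : u ∈ twistedF4 K (2 ^ m)) :
    ∃ a p, (a ∈ rg K LA ∧ a ∈ twistedF4 K (2 ^ m)) ∧ (p ∈ rg K LP ∧ p ∈ twistedF4 K (2 ^ m)) ∧ u = a * p := by
  have hle : rg K L ≤ rg K LA ⊔ rg K LP := by
    refine (Subgroup.closure_le _).2 ?_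
    rintro x ⟨r, t, hr, e⟩
    rcases hL r hr with h | h
    · exact Subgroup.mem_sup_left (mem_rootGen h e)
    · exact Subgroup.mem_sup_right (mem_rootGen h e)
  have hu' : u ∈ (↑(rg K LA ⊔ rg K LP) : Set (GL chevF4.Idx K)) := hle hu
  rw [Subgroup.coe_mul_of_left_le_normalizer_right _ _ hn] at hu'
  obtain ⟨a, ha, p, hp, rfl⟩ := hu'
  have haG : a ∈ chevF4.group K := rootGen_le_group hA ha
  have hpG : p ∈ chevF4.group K := rootGen_le_group hP hp
  have hfix : (twist hσ).sig (a * p) = a * p := (twist hσ).sig_fixed ((orbitSys hσ he).G_le huG)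
  rw [(twist hσ).sig_mul haG hpG] at hfix
  have e1 : a⁻¹ * (twist hσ).sig a = p * ((twist hσ).sig p)⁻¹ := by
    calc a⁻¹ * (twist hσ).sig a = a⁻¹ * ((twist hσ).sig a * (twist hσ).sig p) * ((twist hσ).sig p)⁻¹ := by group
      _ = _ := by rw [hfix]; group
  have e2 : a⁻¹ * (twist hσ).sig a = 1 := Subgroup.mem_bot.1 (hi.le (Subgroup.mem_inf.2
    ⟨(rg K LA).mul_mem ((rg K LA).inv_mem ha) (sig_rg hσ hA rA ha),
      e1 ▸ (rg K LP).mul_mem hp ((rg K LP).inv_mem (sig_rg hσ hP rP hp))⟩))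
  have hG := (orbitSys hσ he).eq_fixedGroup
  refine ⟨a, p, ⟨ha, ?_⟩, ⟨hp, ?_⟩, rfl⟩
  · show a ∈ (orbitSys hσ he).G
    rw [hG]; exact (twist hσ).mem_fixedGroup.2 ⟨haG, (inv_mul_eq_one.1 e2).symm⟩
  · show p ∈ (orbitSys hσ he).G
    rw [hG]; exact (twist hσ).mem_fixedGroup.2 ⟨hpG, (mul_inv_eq_one.1 (e1 ▸ e2)).symm⟩

end

end Cfsg.Agent.Lib.ThompsonF4
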