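import Cfsg.Agent.Lib.Compute.Tits.Cert
import Cfsg.Agent.Lib.ThompsonF4.TitsData

/-!
Checks for the covering of the Tits group by products of two conjugates of an element of order `13` (helper32).
-/

set_option autoImplicit false

namespace Cfsg.Agent.Lib.ThompsonF4.Tits

open Cfsg.Agent.Lib.Compute Cfsg.Agent.Lib.Compute.Tits

/-- The sixteen elements of the last two levels. -/
noncomputable def r16 : List ℕ := elems ops (titsChain.drop 2)

/-- The conjugator of a case, applied to a continuation. -/
noncomputable def withConj (n : ℕ) (k : ℕ → Bool) : Bool :=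
  Option.rec (motive := fun _ => Bool) false
    (fun a => Option.rec (motive := fun _ => Bool) false
      (fun b => forceNat (mulM b.v (r16.getD (Nat.land (Nat.shiftRight n 5) 15) oneM)) fun r =>
        forceNat (mulM a.v r) k)
      (titsChainOrb1.find (Nat.land (Nat.shiftRight n 9) 4503599627370495)))
    (titsChainOrb0.find (Nat.shiftRight n 61))

/-- The check of one case. -/
noncomputable def caseChk (t v r n : ℕ) : Bool :=
  Nat.blt (Nat.land n 31) repCodes.length &&
    withConj n fun c =>
      forceNat (mulM v r) fun h => forceNat (mulM t h) fun g =>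
        Nat.beq (mulM c g) (mulM (repCodes.getD (Nat.land n 31) oneM) c)

/-- The check of one block of eighty first coordinates of a suborbit. -/
noncomputable def blockChk (k q : ℕ) (dat : List (List ℕ)) : Bool :=
  Nat.beq dat.length ((titsChainOrb1.toList.drop (80 * q)).take 80).length &&
    (((titsChainOrb1.toList.drop (80 * q)).take 80).zip dat).all fun p =>
      Nat.beq p.2.length r16.length &&
        (r16.zip p.2).all fun z => caseChk (tCodes.getD k oneM) p.1.v z.1 z.2

theorem exists_block {e : Ent} (he : e ∈ titsChainOrb1.toList) (h640 : titsChainOrb1.toList.length = 640) :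
    ∃ q < 8, e ∈ (titsChainOrb1.toList.drop (80 * q)).take 80 := by
  obtain ⟨i, hi, rfl⟩ := List.getElem_of_mem he
  refine ⟨i / 80, by omega, List.mem_iff_getElem.2 ⟨i % 80, by simp; omega, ?_⟩⟩
  simp [Nat.div_add_mod]

end Cfsg.Agent.Lib.ThompsonF4.Tits
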