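import Cfsg.Agent.Lib.Compute.Tits.NoTwoTransitive
import Cfsg.Agent.Lib.ThompsonF4.Gauss
import Cfsg.Agent.Lib.ThompsonF4.TitsPart0
import Cfsg.Agent.Lib.ThompsonF4.TitsPart1
import Cfsg.Agent.Lib.ThompsonF4.TitsPart2
import Cfsg.Agent.Lib.ThompsonF4.TitsPart3
import Cfsg.Agent.Lib.ThompsonF4.TitsPart4

/-!
The covering of the Tits group by products of two conjugates of an element of order `13` (helper32).
-/

set_option autoImplicit false
set_option maxRecDepth 30000

namespace Cfsg.Agent.Lib.ThompsonF4.Tits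

open Cfsg.Agent.Lib.Compute Cfsg.Agent.Lib.Compute.Tits

/-- The check of the representatives. -/
noncomputable def repChk : Bool :=
  pairsEq ((repPath.map fun p => (pc p, 0))) (repCodes.map fun c => (c, 0))

/-- The check of one witness. -/
noncomputable def witChk (q : ℕ × List ℕ × List ℕ) : Bool :=
  Nat.beq q.1 oneM ||
    forceNat (mulM (mulM (pathEval ops titsChain q.2.1).1 (pc xPath)) (pathEval ops titsChain q.2.1).2) fun a =>
      forceNat (mulM (mulM (pathEval ops titsChain q.2.2).1 (pc xPath)) (pathEval ops titsChain q.2.2).2) fun b =>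
        Nat.beq q.1 (mulM a b)

/-- The check of all witnesses. -/
noncomputable def witAll : Bool :=
  Nat.beq repCodes.length witPath.length && (repCodes.zip witPath).all witChk &&
    Nat.beq (powM (pc xPath) 13) oneM

/-- The check of one point of the first orbit. -/
noncomputable def orbChk (x n : ℕ) : Bool :=
  Nat.blt (Nat.land n 7) 5 &&
    Option.rec (motive := fun _ => Bool) false
      (fun b => forceNat (mulM b.v (r16.getD (Nat.land (Nat.shiftRight n 3) 15) oneM)) fun r =>
        Nat.beq (actM r (tPts.getD (Nat.land n 7) 0)) x)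
      (titsChainOrb1.find (Nat.shiftRight n 7))

/-- The check of the first orbit. -/
noncomputable def orbAll : Bool :=
  Nat.beq orbDat.length titsChainOrb0.toList.length &&
    (titsChainOrb0.toList.zip orbDat).all fun q => orbChk q.1.x q.2

/-- The representatives of the suborbits. -/
noncomputable def tAll : Bool :=
  (tPts.zip tCodes).all fun q =>
    Option.rec (motive := fun _ => Bool) false (fun e => Nat.beq e.v q.2) (titsChainOrb0.find q.1)

theorem repChk_ok : repChk = true := by decide +kernel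

theorem witAll_ok : witAll = true := by decide +kernel

theorem orbAll_ok : orbAll = true := by decide +kernel

theorem tAll_ok : tAll = true := by decide +kernel

theorem lengths : tPts.length = 5 ∧ tCodes.length = 5 ∧ r16.length = 16 ∧
    titsChainOrb1.toList.length = 640 := by decide +kernel

theorem chain_shape : ∃ l₀ l₁ : Lvl, ∃ ls, titsChain = l₀ :: l₁ :: ls ∧ l₀.orb = titsChainOrb0 ∧
    l₁.orb = titsChainOrb1 ∧ r16 = elems ops ls :=
  ⟨_, _, _, rfl, rfl, rfl, rfl⟩

theorem all_parts : ∀ k < 5, ∀ q < 8, ∃ dat, blockChk k q dat = true := by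
  intro k hk
  interval_cases k
  exacts [part0_ok, part1_ok, part2_ok, part3_ok, part4_ok]

theorem exists_zip {α β : Type*} {l : List α} {d : List β} (h : l.length = d.length) {a : α} (ha : a ∈ l) :
    ∃ b, (a, b) ∈ l.zip d := by
  obtain ⟨i, hi, rfl⟩ := List.getElem_of_mem ha
  exact ⟨d[i]'(h ▸ hi), List.mem_iff_getElem.2 ⟨i, by simp [← h, hi], by simp⟩⟩

/-- Representatives other than `1` are products of two conjugates of the chosen element. -/
theorem rep_good {c : ℕ} (hc : c ∈ repCodes) (h1 : c ≠ oneM) :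
    ∃ g : ↥titsT, coding.enc g.1 = c ∧ Good (elp xPath) g := by
  have hp : ∃ p ∈ repPath, pc p = c := by
    have h := pairsEq_eq repChk_ok
    have hm : (c, 0) ∈ repCodes.map fun c => (c, 0) := List.mem_map.2 ⟨c, hc, rfl⟩
    rw [← h] at hm
    obtain ⟨p, hp, e⟩ := List.mem_map.1 hm
    exact ⟨p, hp, (Prod.mk.injEq _ _ _ _ ▸ e).1⟩
  obtain ⟨p, -, rfl⟩ := hp
  have h := witAll_ok
  simp only [witAll, Bool.and_eq_true, List.all_eq_true] at h
  obtain ⟨⟨hlen, hall⟩, -⟩ := h
  obtain ⟨w, hw⟩ := exists_zip (Nat.eq_of_beq_eq_true hlen) hc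
  have h2 := hall _ hw
  simp only [witChk, Bool.or_eq_true, forceNat_eq] at h2
  rcases h2 with h2 | h2
  · exact absurd (Nat.eq_of_beq_eq_true h2) h1
  · refine ⟨elp p, enc_elp p, elp w.1, elp w.2, ?_⟩
    have hinv : ∀ xs, coding.enc (elp xs).1⁻¹ = (pathEval ops titsChain xs).2 := fun xs =>
      (pairOK_pathEval coding gensOK titsChain_ok xs).choose_spec.2.2
    refine Subtype.ext (coding.inj ?_)
    simp only [Subgroup.coe_mul, Subgroup.coe_inv, ← coding.mul_enc, enc_elp, hinv]
    exact Nat.eq_of_beq_eq_true h2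

/-- The element has order dividing `13`. -/
theorem x_pow : elp xPath ^ 13 = 1 := by
  have h := witAll_ok
  simp only [witAll, Bool.and_eq_true] at h
  refine Subtype.ext (coding.inj ?_)
  rw [SubgroupClass.coe_pow, enc_pow, enc_elp]
  exact (Nat.eq_of_beq_eq_true h.2).trans coding.one_enc.symm

/-- Every nontrivial element is a product of two conjugates of the chosen element. -/
theorem covering (g : ↥titsT) (hg : g ≠ 1) : Good (elp xPath) g := by
  obtain ⟨l₀, l₁, ls, hL, h0, h1, h16⟩ := chain_shape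
  have hch := titsChain_ok
  rw [hL] at hch
  have hS₁ := gensOK_next coding gensOK hch
  have hch₁ := (chainCheck_cons coding gensOK hch).2.2.2.2.2
  obtain ⟨e, he, -, -, hex, -⟩ := exists_entry coding gensOK hch g.2
  -- move the image of the base point to the representative of its suborbit
  have ho := orbAll_ok
  simp only [orbAll, Bool.and_eq_true, List.all_eq_true] at ho
  obtain ⟨n, hn⟩ := exists_zip (Nat.eq_of_beq_eq_true ho.1).symm (h0 ▸ he)
  have hn' := ho.2 _ hn
  simp only [orbChk, Bool.and_eq_true] at hn'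
  obtain ⟨hk, hn'⟩ := hn'
  cases hb : titsChainOrb1.find (Nat.shiftRight n 7) with
  | none => rw [hb] at hn'; exact Bool.false_ne_true hn' |>.elim
  | some b =>
  simp only [hb] at hn'
  simp only [forceNat_eq] at hn'
  have hn' := Nat.eq_of_beq_eq_true hn'
  set k := Nat.land n 7
  have hk : k < 5 := Nat.blt_eq.mp hk
  have hj : Nat.land (Nat.shiftRight n 3) 15 < r16.length := by
    rw [lengths.2.2.1]
    exact lt_of_le_of_lt Nat.and_le_right (by norm_num)
  rw [List.getD_eq_getElem _ _ hj] at hn'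
  have hrmem : mulM b.v (r16[Nat.land (Nat.shiftRight n 3) 15]) ∈ elems ops (l₁ :: ls) := by
    simp only [elems, List.mem_flatten, List.mem_map]
    exact ⟨_, ⟨b, h1 ▸ (Tree.find_some hb).1, rfl⟩,
      List.mem_map.2 ⟨_, h16 ▸ List.getElem_mem hj, rfl⟩⟩
  obtain ⟨r, hr, hre⟩ := exists_of_mem_elems coding hS₁ hch₁ hrmem
  have hrT : r ∈ titsT := genGroup_next_le coding gensOK hch hr
  set g' : ↥titsT := (⟨r, hrT⟩ : ↥titsT)⁻¹ * g * ⟨r, hrT⟩
  suffices Good (elp xPath) g' from
    Good.of_cj ⟨(⟨r, hrT⟩ : ↥titsT)⁻¹, by simp [g']⟩ this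
  have hg' : g' ≠ 1 := fun e => hg (by
    have : g = ⟨r, hrT⟩ * g' * (⟨r, hrT⟩ : ↥titsT)⁻¹ := by simp [g']; group
    rw [this, e]; simp)
  -- the representative of the suborbit
  have hkp : k < tPts.length := lengths.1.symm ▸ hk
  have hkc : k < tCodes.length := lengths.2.1.symm ▸ hk
  have ht := tAll_ok
  simp only [tAll, List.all_eq_true] at ht
  have ht' := ht (tPts[k], tCodes[k])
    (List.mem_iff_getElem.2 ⟨k, by simp [hkp, hkc], List.getElem_zip⟩)
  cases hf : titsChainOrb0.find tPts[k] with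
  | none => rw [hf] at ht'; exact Bool.false_ne_true ht' |>.elim
  | some f =>
  simp only [hf] at ht'
  have hfv := Nat.eq_of_beq_eq_true ht'
  obtain ⟨hfm, hfx⟩ := Tree.find_some hf
  obtain ⟨⟨t, htT, ht1, -⟩, htact⟩ := (chainCheck_cons coding gensOK hch).1 f (h0 ▸ hfm)
  simp only at ht1
  rw [List.getD_eq_getElem _ _ hkp] at hn'
  have hrb : ops.act (coding.enc r) l₀.b = l₀.b := act_next coding gensOK hch hr
  have hgb : ops.act (coding.enc g'.1) l₀.b = ops.act (coding.enc t) l₀.b := by
    show ops.act (coding.enc (r⁻¹ * g.1 * r)) l₀.b = _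
    rw [coding.act_mul, hrb, coding.act_mul, hex, ← hn', ← hre]
    show ops.act (coding.enc r⁻¹) (ops.act (coding.enc r) tPts[k]) = _
    rw [← coding.act_mul, inv_mul_cancel, act_enc_one coding, ht1, htact, hfx]
  have hhb : ops.act (coding.enc (t⁻¹ * g'.1)) l₀.b = l₀.b := by
    rw [coding.act_mul, hgb, ← coding.act_mul, inv_mul_cancel, act_enc_one coding]
  have hhmem : t⁻¹ * g'.1 ∈ genGroup coding l₀.T :=
    (genGroup_next_eq coding gensOK hch).2 ⟨mul_mem (inv_mem htT) g'.2, hhb⟩
  have hel := enc_mem_elems coding hS₁ hch₁ hhmem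
  simp only [elems, List.mem_flatten, List.mem_map] at hel
  obtain ⟨_, ⟨v, hv, rfl⟩, hel⟩ := hel
  obtain ⟨r', hr', heq⟩ := List.mem_map.1 hel
  -- the case
  obtain ⟨q, hq, hvq⟩ := exists_block (h1 ▸ hv) lengths.2.2.2
  obtain ⟨dat, hd⟩ := all_parts k hk q hq
  simp only [blockChk, Bool.and_eq_true, List.all_eq_true] at hd
  obtain ⟨row, hrow⟩ := exists_zip (Nat.eq_of_beq_eq_true hd.1).symm hvq
  obtain ⟨hlen, hrow'⟩ := hd.2 _ hrow
  obtain ⟨c, hc⟩ := exists_zip (Nat.eq_of_beq_eq_true hlen).symm (h16 ▸ hr')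
  have hcase := hrow' _ hc
  simp only [caseChk, withConj, Bool.and_eq_true] at hcase
  obtain ⟨hi, hcase⟩ := hcase
  cases ha : titsChainOrb0.find (Nat.shiftRight c 61) with
  | none => rw [ha] at hcase; exact Bool.false_ne_true hcase |>.elim
  | some a =>
  simp only [ha] at hcase
  cases hb' : titsChainOrb1.find (Nat.land (Nat.shiftRight c 9) 4503599627370495) with
  | none => rw [hb'] at hcase; exact Bool.false_ne_true hcase |>.elim
  | some b' =>
  simp only [hb', forceNat_eq] at hcase
  have hj' : Nat.land (Nat.shiftRight c 5) 15 < r16.length := by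
    rw [lengths.2.2.1]
    exact lt_of_le_of_lt Nat.and_le_right (by norm_num)
  rw [List.getD_eq_getElem _ _ hj'] at hcase
  have hcmem : mulM a.v (mulM b'.v (r16[Nat.land (Nat.shiftRight c 5) 15])) ∈ elems ops (l₀ :: l₁ :: ls) := by
    simp only [elems, List.mem_flatten, List.mem_map]
    refine ⟨_, ⟨a, h0 ▸ (Tree.find_some ha).1, rfl⟩, List.mem_map.2 ⟨_, ?_, rfl⟩⟩
    simp only [List.mem_flatten, List.mem_map]
    exact ⟨_, ⟨b', h1 ▸ (Tree.find_some hb').1, rfl⟩,
      List.mem_map.2 ⟨_, h16 ▸ List.getElem_mem hj', rfl⟩⟩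
  obtain ⟨z, hz, hze⟩ := exists_of_mem_elems coding gensOK hch hcmem
  have hi : Nat.land c 31 < repCodes.length := Nat.blt_eq.mp hi
  rw [List.getD_eq_getElem _ _ hi, List.getD_eq_getElem _ _ hkc, ← hfv] at hcase
  have heq' : mulM f.v (mulM v.v r') = coding.enc g'.1 := by
    rw [← ht1]
    show ops.mul (coding.enc t) (ops.mul v.v r') = _
    rw [heq, coding.mul_enc, mul_inv_cancel_left]
  rw [heq'] at hcase
  have hcase := Nat.eq_of_beq_eq_true hcase
  set zz : ↥titsT := ⟨z, hz⟩
  have hne : repCodes[Nat.land c 31] ≠ oneM := fun e => hg' (by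
    rw [e, ← hze, show oneM = coding.enc 1 from coding.one_enc.symm] at hcase
    change ops.mul (coding.enc z) (coding.enc g'.1) = ops.mul (coding.enc 1) (coding.enc z) at hcase
    rw [coding.mul_enc, coding.mul_enc, one_mul] at hcase
    exact Subtype.ext (mul_eq_left.1 (coding.inj hcase)))
  obtain ⟨w, hw, hgood⟩ := rep_good (List.getElem_mem hi) hne
  refine Good.of_cj ⟨zz, ?_⟩ hgood
  rw [eq_mul_inv_iff_mul_eq]
  refine Subtype.ext (coding.inj ?_)
  simp only [Subgroup.coe_mul, ← coding.mul_enc, zz]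
  rw [hze, hw]
  exact hcase.symm

/-- The covering for the Tits group. -/
theorem exists_covering :
    ∃ x : ↥titsT, Odd (orderOf x) ∧ ∀ g : ↥titsT, g ≠ 1 → Good x g :=
  ⟨elp xPath, (show Odd 13 from ⟨6, rfl⟩).of_dvd_nat (orderOf_dvd_of_pow_eq_one x_pow), covering⟩

end Cfsg.Agent.Lib.ThompsonF4.Tits
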